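import Mathlib

/-!
Commutants of elements of order 7 and 13 in 6 × 6 matrices over the field with three elements.
-/

set_option autoImplicit false

namespace CfsgLib.PrimeGraphSp63

open Polynomial Matrix

variable {F : Type*} [Field F] {ι : Type*} [Fintype ι] [DecidableEq ι]

theorem commute_aeval' (M : Matrix ι ι F) {h : Matrix ι ι F} (hh : Commute h M) (P : F[X]) :
    Commute h (aeval M P) := by
  induction P using Polynomial.induction_on' with
  | add P Q hP hQ => rw [map_add]; exact hP.add_right hQ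
  | monomial k a =>
    rw [aeval_monomial]
    exact (Algebra.commute_algebraMap_right a h).mul_right (hh.pow_right k)

/-- A vector whose annihilator is as small as possible is cyclic, so the commutant consists of
polynomials. -/
theorem exists_poly_of_faithful (M : Matrix ι ι F) (v : ι → F)
    (hv : ∀ P : F[X], P.natDegree < Fintype.card ι → aeval M P *ᵥ v = 0 → P = 0)
    {h : Matrix ι ι F} (hh : Commute h M) : ∃ P : F[X], h = aeval M P := by
  classical
  set n := Fintype.card ι
  let L : ↥(Polynomial.degreeLT F n) →ₗ[F] (ι → F) :=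
    { toFun := fun P => aeval M (P : F[X]) *ᵥ v
      map_add' := fun P Q => by simp [Matrix.add_mulVec]
      map_smul' := fun c P => by simp [Matrix.smul_mulVec] }
  have hinj : Function.Injective L := by
    rw [← LinearMap.ker_eq_bot, LinearMap.ker_eq_bot']
    intro P hP
    apply Subtype.ext
    by_contra hne
    have hdeg : (P : F[X]).natDegree < n :=
      (Polynomial.natDegree_lt_iff_degree_lt hne).mpr (Polynomial.mem_degreeLT.mp P.2)
    exact hne (hv _ hdeg hP)
  haveI : Module.Finite F ↥(Polynomial.degreeLT F n) :=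
    Module.Finite.equiv (Polynomial.degreeLTEquiv F n).symm
  have hsurj : Function.Surjective L := by
    refine (LinearMap.injective_iff_surjective_of_finrank_eq_finrank ?_).mp hinj
    rw [(Polynomial.degreeLTEquiv F n).finrank_eq, Module.finrank_fin_fun, Module.finrank_fintype_fun_eq_card]
  obtain ⟨P, hP⟩ := hsurj (h *ᵥ v)
  refine ⟨P, Matrix.ext_of_mulVec_single fun i => ?_⟩
  obtain ⟨Q, hQ⟩ := hsurj (Pi.single i 1)
  change aeval M (P : F[X]) *ᵥ v = h *ᵥ v at hP
  change aeval M (Q : F[X]) *ᵥ v = Pi.single i 1 at hQ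
  rw [← hQ, mulVec_mulVec, mulVec_mulVec, (commute_aeval' M hh Q).eq,
    (commute_aeval' M (commute_aeval' M (Commute.refl M) P).symm Q).eq, ← mulVec_mulVec,
    ← mulVec_mulVec, hP]

variable [Fintype F]

/-- A root of an irreducible factor of `X^r - 1` other than `X - 1`. -/
theorem factor_root {r : ℕ} (hr : r.Prime) (hF : (r : F) ≠ 0) {q : F[X]} (hq : Irreducible q)
    (hdvd : q ∣ ∑ i ∈ Finset.range r, X ^ i) :
    orderOf (AdjoinRoot.root q) = r ∧ r ∣ Fintype.card F ^ q.natDegree - 1 := by
  haveI : Fact (Irreducible q) := ⟨hq⟩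
  haveI : Module.Finite F (AdjoinRoot q) := (AdjoinRoot.powerBasis hq.ne_zero).finite
  haveI : Finite (AdjoinRoot q) := Module.finite_of_finite F
  haveI : Fintype (AdjoinRoot q) := Fintype.ofFinite _
  set z := AdjoinRoot.root q
  have h0 : ∑ i ∈ Finset.range r, z ^ i = 0 := by
    have := AdjoinRoot.mk_eq_zero.mpr hdvd
    simpa [map_sum, AdjoinRoot.mk_X] using this
  have hz : z ^ r = 1 := by
    have := geom_sum_mul z r
    rw [h0, zero_mul, eq_comm, sub_eq_zero] at this
    exact this
  have hz1 : z ≠ 1 := by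
    intro h
    rw [h] at h0
    simp only [one_pow, Finset.sum_const, Finset.card_range, nsmul_one] at h0
    apply hF
    have hinj : Function.Injective (algebraMap F (AdjoinRoot q)) := (algebraMap F (AdjoinRoot q)).injective
    exact hinj (by rw [map_natCast, map_zero, h0])
  haveI : Fact r.Prime := ⟨hr⟩
  have ho : orderOf z = r := orderOf_eq_prime hz hz1
  refine ⟨ho, ?_⟩
  have hne : z ≠ 0 := fun h => by rw [h, zero_pow hr.ne_zero] at hz; exact zero_ne_one hz
  have hfr := FiniteField.pow_card_sub_one_eq_one _ hne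
  have hcard : Fintype.card (AdjoinRoot q) = Fintype.card F ^ q.natDegree := by
    rw [← Nat.card_eq_fintype_card, Module.natCard_eq_pow_finrank (K := F), Nat.card_eq_fintype_card,
      (AdjoinRoot.powerBasis hq.ne_zero).finrank, AdjoinRoot.powerBasis_dim]
  rw [hcard] at hfr
  rw [← ho]
  exact orderOf_dvd_of_pow_eq_one hfr

/-- Fermat in `F[X]/(q)`. -/
theorem dvd_pow_sub_one {q : F[X]} (hq : Irreducible q) {P : F[X]} (hP : ¬ q ∣ P) :
    q ∣ P ^ (Fintype.card F ^ q.natDegree - 1) - 1 := by
  haveI : Fact (Irreducible q) := ⟨hq⟩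
  haveI : Module.Finite F (AdjoinRoot q) := (AdjoinRoot.powerBasis hq.ne_zero).finite
  haveI : Finite (AdjoinRoot q) := Module.finite_of_finite F
  haveI : Fintype (AdjoinRoot q) := Fintype.ofFinite _
  have hne : AdjoinRoot.mk q P ≠ 0 := fun h => hP (AdjoinRoot.mk_eq_zero.mp h)
  have hfr := FiniteField.pow_card_sub_one_eq_one _ hne
  have hcard : Fintype.card (AdjoinRoot q) = Fintype.card F ^ q.natDegree := by
    rw [← Nat.card_eq_fintype_card, Module.natCard_eq_pow_finrank (K := F), Nat.card_eq_fintype_card,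
      (AdjoinRoot.powerBasis hq.ne_zero).finrank, AdjoinRoot.powerBasis_dim]
  rw [hcard] at hfr
  rw [← AdjoinRoot.mk_eq_zero, map_sub, map_pow, map_one, hfr, sub_self]

variable (hF : Fintype.card F = 3)
include hF

theorem cast_ne_zero_of_prime {r : ℕ} (hr : r.Prime) (h3 : r ≠ 3) : (r : F) ≠ 0 := by
  haveI : Fact (Nat.Prime 3) := ⟨Nat.prime_three⟩
  haveI : CharP F 3 := charP_of_card_eq_prime hF
  rw [Ne, CharP.cast_eq_zero_iff F 3]
  exact fun h => h3 ((Nat.prime_dvd_prime_iff_eq Nat.prime_three hr).mp h).symm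

/-- A matrix of prime order has a non-trivial cyclotomic factor in its minimal polynomial. -/
theorem exists_factor {r : ℕ} (hr : r.Prime) {M : Matrix ι ι F} (hM : M ^ r = 1) (hM1 : M ≠ 1) :
    ∃ q : F[X], q.Monic ∧ Irreducible q ∧ q ∣ minpoly F M ∧ q ∣ ∑ i ∈ Finset.range r, X ^ i := by
  have hdvd : minpoly F M ∣ (∑ i ∈ Finset.range r, X ^ i) * (X - 1) := by
    rw [geom_sum_mul]
    exact minpoly.dvd F _ (by rw [map_sub, map_pow, aeval_X, map_one, hM, sub_self])
  have hint : IsIntegral F M := Matrix.isIntegral _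
  by_cases hc : IsCoprime (minpoly F M) (∑ i ∈ Finset.range r, X ^ i)
  · exfalso
    have h1 : minpoly F M ∣ X - 1 := hc.dvd_of_dvd_mul_left hdvd
    obtain ⟨Q, hQ⟩ := h1
    have := congrArg (aeval M) hQ
    rw [map_mul, minpoly.aeval, zero_mul, map_sub, aeval_X, map_one, sub_eq_zero] at this
    exact hM1 this
  · by_contra hno
    push Not at hno
    refine hc (isCoprime_of_dvd _ _ (fun h => minpoly.ne_zero hint h.1) ?_)
    intro z hzu hz0 hz1 hz2
    obtain ⟨q, hqm, hqi, hqz⟩ := Polynomial.exists_monic_irreducible_factor z hzu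
    exact hno q hqm hqi (hqz.trans hz1) (hqz.trans hz2)

theorem minpoly_natDegree_le (M : Matrix ι ι F) : (minpoly F M).natDegree ≤ Fintype.card ι := by
  have := Polynomial.natDegree_le_of_dvd (Matrix.minpoly_dvd_charpoly M) (Matrix.charpoly_monic M).ne_zero
  rwa [Matrix.charpoly_natDegree_eq_dim] at this

variable (hι : Fintype.card ι = 6)
include hι

/-- The commutant of an element of order 7. -/
theorem commutant_seven {M : Matrix ι ι F} (hM : M ^ 7 = 1) (hM1 : M ≠ 1) {h : Matrix ι ι F}
    (hh : Commute h M) (hu : IsUnit h) : h ^ 728 = 1 := by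
  classical
  obtain ⟨q, hqm, hqi, hqμ, hqs⟩ := exists_factor hF (by norm_num) hM hM1
  have hint : IsIntegral F M := Matrix.isIntegral _
  obtain ⟨-, hd⟩ := factor_root (by norm_num : Nat.Prime 7)
    (cast_ne_zero_of_prime hF (by norm_num) (by norm_num)) hqi hqs
  rw [hF] at hd
  have hle := (Polynomial.natDegree_le_of_dvd hqμ (minpoly.ne_zero hint)).trans
    ((minpoly_natDegree_le hF M).trans hι.le)
  have hq6 : q.natDegree = 6 := by
    have hpos := hqi.natDegree_pos
    interval_cases h6 : q.natDegree <;> first | rfl | (exfalso; norm_num at hd)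
  have hμ : minpoly F M = q :=
    (Polynomial.eq_of_monic_of_dvd_of_natDegree_le hqm (minpoly.monic hint) hqμ
      (by rw [hq6, ← hι]; exact minpoly_natDegree_le hF M))
  obtain ⟨i⟩ : Nonempty ι := Fintype.card_pos_iff.mp (by rw [hι]; norm_num)
  set v : ι → F := Pi.single i 1
  have hv : ∀ P : F[X], P.natDegree < Fintype.card ι → aeval M P *ᵥ v = 0 → P = 0 := by
    intro P hP h0
    by_contra hne
    have hnd : ¬ q ∣ P := fun h => absurd (Polynomial.natDegree_le_of_dvd h hne) (by rw [hq6, ← hι]; omega)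
    obtain ⟨a, b, hab⟩ := hqi.coprime_iff_not_dvd.mpr hnd
    have h1 := congrArg (fun R => aeval M R *ᵥ v) hab
    simp only [map_add, map_mul, map_one, ← hμ, minpoly.aeval, mul_zero, zero_add, ← mulVec_mulVec,
      h0, Matrix.mulVec_zero, Matrix.one_mulVec] at h1
    have := congrFun h1 i
    simp [v] at this
  obtain ⟨P, rfl⟩ := exists_poly_of_faithful M v hv hh
  have hnd : ¬ q ∣ P := by
    rintro ⟨R, rfl⟩
    rw [map_mul, ← hμ, minpoly.aeval, zero_mul] at hu
    haveI : Nonempty ι := ⟨i⟩
    exact not_isUnit_zero hu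
  have h2 := dvd_pow_sub_one hqi hnd
  rw [hF, hq6, ← hμ] at h2
  have h3 := aeval_eq_zero_of_dvd_aeval_eq_zero h2 (minpoly.aeval F M)
  rw [map_sub, map_pow, map_one, sub_eq_zero] at h3
  exact h3

/-- An element of order 13 whose minimal polynomial is closed under inversion: two cubic factors. -/
theorem thirteen_factors {M N : Matrix ι ι F} (hM : M ^ 13 = 1) (hM1 : M ≠ 1) (hN : M * N = 1)
    (hrev : aeval N (minpoly F M) = 0) :
    ∃ q q' : F[X], Irreducible q ∧ Irreducible q' ∧ q.natDegree = 3 ∧ q'.natDegree = 3 ∧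
      IsCoprime q q' ∧ minpoly F M = q * q' ∧
      aeval (AdjoinRoot.root q ^ 12) q' = 0 := by
  classical
  obtain ⟨q, hqm, hqi, hqμ, hqs⟩ := exists_factor hF (by norm_num) hM hM1
  have hint : IsIntegral F M := Matrix.isIntegral _
  obtain ⟨ho, hd⟩ := factor_root (by norm_num : Nat.Prime 13)
    (cast_ne_zero_of_prime hF (by norm_num) (by norm_num)) hqi hqs
  rw [hF] at hd
  haveI : Fact (Irreducible q) := ⟨hqi⟩
  set z := AdjoinRoot.root q
  set μ := minpoly F M
  have h13 : z ^ 13 = 1 := by rw [← ho]; exact pow_orderOf_eq_one z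
  have hle6 : μ.natDegree ≤ 6 := (minpoly_natDegree_le hF M).trans hι.le
  have hle := (Polynomial.natDegree_le_of_dvd hqμ (minpoly.ne_zero hint)).trans hle6
  haveI : Fact (Nat.Prime 3) := ⟨Nat.prime_three⟩
  haveI : CharP F 3 := charP_of_card_eq_prime hF
  haveI : CharP (AdjoinRoot q) 3 :=
    charP_of_injective_ringHom (algebraMap F (AdjoinRoot q)).injective 3
  have hfrob : ∀ (P : F[X]) (x : AdjoinRoot q), aeval x P ^ 3 = aeval (x ^ 3) P := by
    intro P x
    induction P using Polynomial.induction_on' with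
    | add P Q hP hQ => rw [map_add, map_add, add_pow_char, hP, hQ]
    | monomial k a =>
      rw [aeval_monomial, aeval_monomial, mul_pow, ← map_pow, ← hF, FiniteField.pow_card,
        ← pow_mul, ← pow_mul, mul_comm k]
  -- the inverse root is a root of the minimal polynomial
  have hμz : aeval (z ^ 12) μ = 0 := by
    have hN12 : N = M ^ 12 := by
      calc N = M ^ 13 * N := by rw [hM, one_mul]
        _ = M ^ 12 := by rw [pow_succ, mul_assoc, hN, mul_one]
    have h1 : aeval M (μ.comp (X ^ 12)) = 0 := by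
      rw [aeval_comp, map_pow, aeval_X, ← hN12, hrev]
    have h2 := AdjoinRoot.mk_eq_zero.mpr (hqμ.trans (minpoly.dvd F _ h1))
    rwa [← AdjoinRoot.aeval_eq, aeval_comp, map_pow, aeval_X] at h2
  have hdeg : ∀ (p : F[X]), Irreducible p → aeval (z ^ 12) p = 0 → p ∣ ∑ i ∈ Finset.range 13, X ^ i := by
    intro p hp hpz
    have hs : aeval (z ^ 12) (∑ i ∈ Finset.range 13, (X : F[X]) ^ i) = 0 := by
      simp only [map_sum, map_pow, aeval_X]
      have h12 : z ^ 12 ≠ 1 := by
        intro h
        have := orderOf_dvd_of_pow_eq_one h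
        rw [ho] at this
        norm_num at this
      have := geom_sum_mul (z ^ 12) 13
      rw [← pow_mul, show 12 * 13 = 13 * 12 by norm_num, pow_mul, h13, one_pow, sub_self, mul_eq_zero] at this
      exact this.resolve_right (sub_ne_zero.mpr h12)
    by_contra hnd
    obtain ⟨a, b, hab⟩ := hp.coprime_iff_not_dvd.mpr hnd
    have := congrArg (aeval (z ^ 12)) hab
    simp [hpz, hs] at this
  have hdq : ∀ p : F[X], Irreducible p → p ∣ μ → p ∣ ∑ i ∈ Finset.range 13, X ^ i →
      p.natDegree = 3 ∨ p.natDegree = 6 := by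
    intro p hp hpμ hps
    obtain ⟨-, h⟩ := factor_root (by norm_num : Nat.Prime 13)
      (cast_ne_zero_of_prime hF (by norm_num) (by norm_num)) hp hps
    rw [hF] at h
    have hpos := hp.natDegree_pos
    have := (Polynomial.natDegree_le_of_dvd hpμ (minpoly.ne_zero hint)).trans hle6
    interval_cases h6 : p.natDegree <;> first | (left; rfl) | (right; rfl) | (exfalso; norm_num at h)
  -- the irreducible factor through the inverse root
  have hintz : IsIntegral F (z ^ 12) := by
    haveI : Module.Finite F (AdjoinRoot q) := (AdjoinRoot.powerBasis hqi.ne_zero).finite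
    exact IsIntegral.of_finite F _
  set q' := minpoly F (z ^ 12) with hq'def
  have hq'i : Irreducible q' := minpoly.irreducible hintz
  have hq'μ : q' ∣ μ := minpoly.dvd F _ hμz
  have hq's := hdeg q' hq'i (minpoly.aeval F _)
  have hne : q ≠ q' := by
    intro he
    -- the roots of `q` would be `z, z^3, z^9, z^12`, four of them
    haveI : Module.Finite F (AdjoinRoot q) := (AdjoinRoot.powerBasis hqi.ne_zero).finite
    have hz : aeval z q = 0 := by rw [AdjoinRoot.aeval_eq, AdjoinRoot.mk_self]
    have hroots : ∀ j, aeval (z ^ 3 ^ j) q = 0 := by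
      intro j
      induction j with
      | zero => simpa using hz
      | succ j ih => rw [pow_succ, pow_mul, ← hfrob, ih, zero_pow three_ne_zero]
    have hz12 : aeval (z ^ 12) q = 0 :=
      aeval_eq_zero_of_dvd_aeval_eq_zero (dvd_of_eq he.symm) (minpoly.aeval F (z ^ 12))
    have hall : ∀ j, aeval ((z ^ 12) ^ 3 ^ j) q = 0 := by
      intro j
      induction j with
      | zero => simpa using hz12
      | succ j ih => rw [pow_succ 3 j, pow_mul (z ^ 12) (3 ^ j) 3, ← hfrob, ih, zero_pow three_ne_zero]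
    have hmap : (q.map (algebraMap F (AdjoinRoot q))) ≠ 0 :=
      Polynomial.map_ne_zero hqi.ne_zero
    let S : Finset (AdjoinRoot q) := ({1, 3, 9, 12, 10, 4} : Finset ℕ).image (fun k => z ^ k)
    have hSc : S.card = 6 := by
      rw [Finset.card_image_of_injOn]
      · rfl
      · intro a ha b hb hab
        simp only at hab
        have := pow_injOn_Iio_orderOf (G := AdjoinRoot q) (x := z)
        apply this
        · simp at ha; rw [Set.mem_Iio, ho]; omega
        · simp at hb; rw [Set.mem_Iio, ho]; omega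
        · exact hab
    have hSsub : S ⊆ (q.map (algebraMap F (AdjoinRoot q))).roots.toFinset := by
      intro x hx
      rw [Multiset.mem_toFinset, Polynomial.mem_roots hmap, Polynomial.IsRoot.def,
        Polynomial.eval_map_algebraMap]
      simp [S] at hx
      have e10 : (z ^ 12) ^ 3 = z ^ 10 := by
        rw [← pow_mul, show 12 * 3 = 13 * 2 + 10 by norm_num, pow_add, pow_mul, h13, one_pow, one_mul]
      have e4 : (z ^ 12) ^ 9 = z ^ 4 := by
        rw [← pow_mul, show 12 * 9 = 13 * 8 + 4 by norm_num, pow_add, pow_mul, h13, one_pow, one_mul]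
      rcases hx with rfl | rfl | rfl | rfl | rfl | rfl
      · exact hz
      · simpa using hroots 1
      · simpa using hroots 2
      · exact hz12
      · rw [← e10]; simpa using hall 1
      · rw [← e4]; simpa using hall 2
    have h1 : q.natDegree ≥ 6 := by
      have := (Finset.card_le_card hSsub).trans ((Multiset.toFinset_card_le _).trans (Polynomial.card_roots' _))
      rwa [hSc, Polynomial.natDegree_map] at this
    have h2 : q ∣ X ^ (Fintype.card F ^ 3) - X := by
      rw [← AdjoinRoot.mk_eq_zero, map_sub, map_pow, AdjoinRoot.mk_X, hF]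
      show z ^ (3 ^ 3) - z = 0
      rw [show (3 : ℕ) ^ 3 = 13 * 2 + 1 by norm_num, pow_succ, pow_mul, h13, one_pow, one_mul, sub_self]
    have h3 := hqi.natDegree_dvd_of_dvd_X_pow_card_pow_sub_X (n := 3) (by simpa using h2)
    have := Nat.le_of_dvd (by norm_num) h3
    omega
  have hcop : IsCoprime q q' := hqi.coprime_iff_not_dvd.mpr fun h =>
    hne (Polynomial.eq_of_monic_of_associated hqm (minpoly.monic hintz) (hqi.associated_of_dvd hq'i h))
  have hmul : q * q' ∣ μ := hcop.mul_dvd hqμ hq'μ
  have hsum : q.natDegree + q'.natDegree ≤ μ.natDegree := by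
    rw [← Polynomial.natDegree_mul hqi.ne_zero hq'i.ne_zero]
    exact Polynomial.natDegree_le_of_dvd hmul (minpoly.ne_zero hint)
  have h3 := hdq q hqi hqμ hqs
  have h3' := hdq q' hq'i hq'μ hq's
  refine ⟨q, q', hqi, hq'i, by omega, by omega, hcop, ?_, minpoly.aeval F _⟩
  refine Polynomial.eq_of_monic_of_dvd_of_natDegree_le (hqm.mul (minpoly.monic hintz))
    (minpoly.monic hint) hmul ?_
  rw [Polynomial.natDegree_mul hqi.ne_zero hq'i.ne_zero]
  omega

/-- The commutant of an element of order 13. -/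
theorem commutant_thirteen {M N : Matrix ι ι F} (hM : M ^ 13 = 1) (hM1 : M ≠ 1) (hN : M * N = 1)
    (hrev : aeval N (minpoly F M) = 0) {h : Matrix ι ι F} (hh : Commute h M) (hu : IsUnit h) :
    h ^ 26 = 1 ∧ ∃ P : F[X], h = aeval M P ∧
      (h * h = 1 → aeval N P * h = 1 → h = 1 ∨ h = -1) := by
  classical
  obtain ⟨q, q', hqi, hq'i, hq3, hq'3, hcop, hμ, hz12⟩ := thirteen_factors hF hι hM hM1 hN hrev
  have hint : IsIntegral F M := Matrix.isIntegral _
  haveI : Nonempty ι := Fintype.card_pos_iff.mp (by rw [hι]; norm_num)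
  have hμ0 : aeval M q * aeval M q' = 0 := by rw [← map_mul, ← hμ, minpoly.aeval]
  have hμ0' : aeval M q' * aeval M q = 0 := by rw [← map_mul, mul_comm, ← hμ, minpoly.aeval]
  have hndeg : ∀ {a b : F[X]}, Irreducible a → Irreducible b → minpoly F M = a * b →
      aeval M b ≠ 0 := by
    intro a b ha hb he h0
    have hd := Polynomial.natDegree_le_of_dvd (minpoly.dvd F _ h0) hb.ne_zero
    rw [he, Polynomial.natDegree_mul ha.ne_zero hb.ne_zero] at hd
    have := ha.natDegree_pos
    omega
  have hq'0 : aeval M q' ≠ 0 := hndeg hqi hq'i hμ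
  have hq0 : aeval M q ≠ 0 := hndeg hq'i hqi (by rw [hμ, mul_comm])
  obtain ⟨x, hx⟩ : ∃ x, aeval M q' *ᵥ x ≠ 0 := by
    by_contra hno; push Not at hno
    exact hq'0 (Matrix.ext_of_mulVec_single fun i => by rw [hno, Matrix.zero_mulVec])
  obtain ⟨y, hy⟩ : ∃ y, aeval M q *ᵥ y ≠ 0 := by
    by_contra hno; push Not at hno
    exact hq0 (Matrix.ext_of_mulVec_single fun i => by rw [hno, Matrix.zero_mulVec])
  set v := aeval M q' *ᵥ x + aeval M q *ᵥ y
  have hann : ∀ {a b : F[X]}, Irreducible a → aeval M a * aeval M b = 0 → ∀ {u : ι → F}, aeval M b *ᵥ u ≠ 0 →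
      ∀ P : F[X], aeval M P *ᵥ (aeval M b *ᵥ u) = 0 → a ∣ P := by
    intro a b ha hab u hu P hP
    by_contra hnd
    obtain ⟨c, d, hcd⟩ := ha.coprime_iff_not_dvd.mpr hnd
    have h1 := congrArg (fun R => aeval M R *ᵥ (aeval M b *ᵥ u)) hcd
    simp only [map_add, map_mul, map_one, Matrix.add_mulVec, ← mulVec_mulVec, hP, Matrix.mulVec_zero,
      add_zero, Matrix.one_mulVec] at h1
    rw [mulVec_mulVec _ (aeval M a), hab, Matrix.zero_mulVec, Matrix.mulVec_zero] at h1
    exact hu h1.symm
  have hv : ∀ P : F[X], P.natDegree < Fintype.card ι → aeval M P *ᵥ v = 0 → P = 0 := by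
    intro P hP h0
    by_contra hne
    have e1 : aeval M (q' * P) *ᵥ (aeval M q' *ᵥ x) = 0 := by
      have h1 := congrArg (aeval M q' *ᵥ ·) h0
      simp only [v, Matrix.mulVec_add, Matrix.mulVec_zero] at h1
      have e : aeval M q' *ᵥ (aeval M P *ᵥ (aeval M q *ᵥ y)) = 0 := by
        rw [mulVec_mulVec, mulVec_mulVec, ← map_mul, ← map_mul,
          show q' * P * q = P * (q * q') by ring, map_mul, ← hμ, minpoly.aeval, mul_zero, Matrix.zero_mulVec]
      rw [e, add_zero] at h1
      rw [map_mul, ← mulVec_mulVec]; exact h1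
    have hqP : q ∣ P := (hcop).dvd_of_dvd_mul_left (hann hqi hμ0 hx _ e1)
    have e2 : aeval M (q * P) *ᵥ (aeval M q *ᵥ y) = 0 := by
      have h1 := congrArg (aeval M q *ᵥ ·) h0
      simp only [v, Matrix.mulVec_add, Matrix.mulVec_zero] at h1
      have e : aeval M q *ᵥ (aeval M P *ᵥ (aeval M q' *ᵥ x)) = 0 := by
        rw [mulVec_mulVec, mulVec_mulVec, ← map_mul, ← map_mul,
          show q * P * q' = P * (q * q') by ring, map_mul, ← hμ, minpoly.aeval, mul_zero, Matrix.zero_mulVec]
      rw [e, zero_add] at h1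
      rw [map_mul, ← mulVec_mulVec]; exact h1
    have hq'P : q' ∣ P := (hcop.symm).dvd_of_dvd_mul_left (hann hq'i hμ0' hy _ e2)
    have := Polynomial.natDegree_le_of_dvd (hcop.mul_dvd hqP hq'P) hne
    rw [Polynomial.natDegree_mul hqi.ne_zero hq'i.ne_zero, hq3, hq'3] at this
    omega
  obtain ⟨P, rfl⟩ := exists_poly_of_faithful M v hv hh
  have hnd : ∀ {a b : F[X]}, aeval M b ≠ 0 → aeval M a * aeval M b = 0 → ¬ a ∣ P := by
    rintro a b hb hab ⟨R, rfl⟩
    apply hb
    have h1 : aeval M (a * R) * aeval M b = 0 := by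
      rw [← map_mul, show a * R * b = R * (a * b) by ring, map_mul, map_mul (aeval M) a b, hab, mul_zero]
    exact hu.mul_right_eq_zero.mp h1
  have hnq := hnd hq'0 hμ0
  have hnq' := hnd hq0 hμ0'
  refine ⟨?_, P, rfl, fun hsq hform => ?_⟩
  · have h1 := dvd_pow_sub_one hqi hnq
    have h2 := dvd_pow_sub_one hq'i hnq'
    rw [hF, hq3] at h1; rw [hF, hq'3] at h2
    have h3 := aeval_eq_zero_of_dvd_aeval_eq_zero (hcop.mul_dvd h1 h2) (by rw [← hμ]; exact minpoly.aeval F M)
    rw [map_sub, map_pow, map_one, sub_eq_zero] at h3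
    exact h3
  · have hsq' : minpoly F M ∣ (P - 1) * (P + 1) :=
      minpoly.dvd F _ (by
        rw [map_mul, map_sub, map_add, map_one, sub_mul, mul_add, mul_one, one_mul, hsq]; abel)
    have hN12 : N = M ^ 12 := by
      calc N = M ^ 13 * N := by rw [hM, one_mul]
        _ = M ^ 12 := by rw [pow_succ, mul_assoc, hN, mul_one]
    have hR : minpoly F M ∣ P.comp (X ^ 12) * P - 1 :=
      minpoly.dvd F _ (by rw [map_sub, map_mul, map_one, aeval_comp, map_pow, aeval_X, ← hN12, hform, sub_self])
    haveI : Fact (Irreducible q) := ⟨hqi⟩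
    set z := AdjoinRoot.root q
    have hkey : aeval (z ^ 12) P * aeval z P = 1 := by
      have := AdjoinRoot.mk_eq_zero.mpr ((dvd_mul_right q q').trans (hμ ▸ hR))
      rw [← AdjoinRoot.aeval_eq, map_sub, map_mul, map_one, aeval_comp, map_pow, aeval_X, sub_eq_zero] at this
      exact this
    have hzq : ∀ R : F[X], q ∣ R → aeval z R = 0 := fun R h => by
      rw [AdjoinRoot.aeval_eq]; exact AdjoinRoot.mk_eq_zero.mpr h
    have hzq' : ∀ R : F[X], q' ∣ R → aeval (z ^ 12) R = 0 := fun R h =>
      aeval_eq_zero_of_dvd_aeval_eq_zero h hz12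
    have h2 : (2 : AdjoinRoot q) ≠ 0 := by
      rw [← map_ofNat (algebraMap F (AdjoinRoot q)) 2, Ne, map_eq_zero]
      have := cast_ne_zero_of_prime hF Nat.prime_two (by norm_num)
      exact_mod_cast this
    have hfin : minpoly F M ∣ P - 1 ∨ minpoly F M ∣ P + 1 := by
      rw [hμ] at hsq' ⊢
      rcases hqi.prime.dvd_or_dvd ((dvd_mul_right q q').trans hsq') with a | a <;>
        rcases hq'i.prime.dvd_or_dvd ((dvd_mul_left q' q).trans hsq') with b | b
      · exact Or.inl (hcop.mul_dvd a b)
      · exfalso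
        have ea := hzq _ a; have eb := hzq' _ b
        rw [map_sub, map_one, sub_eq_zero] at ea
        rw [map_add, map_one, add_eq_zero_iff_eq_neg] at eb
        rw [ea, eb] at hkey
        exact h2 (by linear_combination -hkey)
      · exfalso
        have ea := hzq _ a; have eb := hzq' _ b
        rw [map_sub, map_one, sub_eq_zero] at eb
        rw [map_add, map_one, add_eq_zero_iff_eq_neg] at ea
        rw [ea, eb] at hkey
        exact h2 (by linear_combination -hkey)
      · exact Or.inr (hcop.mul_dvd a b)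
    rcases hfin with h | h
    · left
      have := aeval_eq_zero_of_dvd_aeval_eq_zero h (minpoly.aeval F M)
      rwa [map_sub, map_one, sub_eq_zero] at this
    · right
      have := aeval_eq_zero_of_dvd_aeval_eq_zero h (minpoly.aeval F M)
      rwa [map_add, map_one, add_eq_zero_iff_eq_neg] at this

end CfsgLib.PrimeGraphSp63
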