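import Mathlib.LinearAlgebra.SymplecticGroup

/-! Explicit elements of `Sp_6(3)` of projective orders 6, 10, 14, 15. -/

set_option autoImplicit false

namespace CfsgLib.PrimeGraphSp63

open Matrix

def wit6 : Matrix (Fin 3 ⊕ Fin 3) (Fin 3 ⊕ Fin 3) (ZMod 3) :=
  (!![1, 0, 0, 2, 0, 2; 0, 1, 0, 0, 0, 0; 0, 0, 1, 2, 0, 2; 0, 0, 2, 2, 0, 1; 0, 0, 0, 0, 1, 0; 2, 0, 0, 1, 0, 2] : Matrix (Fin 6) (Fin 6) (ZMod 3)).submatrix finSumFinEquiv finSumFinEquiv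

theorem wit6_mem : wit6 * Matrix.J (Fin 3) (ZMod 3) * wit6ᵀ = Matrix.J (Fin 3) (ZMod 3) := by decide +kernel

theorem wit6_pow : wit6 ^ 6 = 1 := by decide +kernel

theorem wit6_pow_2 : wit6 ^ 2 ≠ 1 ∧ wit6 ^ 2 ≠ -1 := by decide +kernel

theorem wit6_pow_3 : wit6 ^ 3 ≠ 1 ∧ wit6 ^ 3 ≠ -1 := by decide +kernel

def wit10 : Matrix (Fin 3 ⊕ Fin 3) (Fin 3 ⊕ Fin 3) (ZMod 3) :=
  (!![1, 1, 2, 1, 1, 0; 1, 2, 1, 1, 0, 1; 2, 0, 2, 0, 1, 2; 1, 1, 2, 0, 1, 1; 0, 2, 0, 0, 0, 1; 2, 2, 2, 1, 1, 1] : Matrix (Fin 6) (Fin 6) (ZMod 3)).submatrix finSumFinEquiv finSumFinEquiv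

theorem wit10_mem : wit10 * Matrix.J (Fin 3) (ZMod 3) * wit10ᵀ = Matrix.J (Fin 3) (ZMod 3) := by decide +kernel

theorem wit10_pow : wit10 ^ 10 = 1 := by decide +kernel

theorem wit10_pow_2 : wit10 ^ 2 ≠ 1 ∧ wit10 ^ 2 ≠ -1 := by decide +kernel

theorem wit10_pow_5 : wit10 ^ 5 ≠ 1 ∧ wit10 ^ 5 ≠ -1 := by decide +kernel

def wit14 : Matrix (Fin 3 ⊕ Fin 3) (Fin 3 ⊕ Fin 3) (ZMod 3) :=
  (!![1, 0, 0, 1, 1, 0; 0, 1, 0, 1, 0, 0; 0, 0, 1, 0, 0, 2; 1, 0, 2, 2, 1, 1; 0, 2, 1, 2, 1, 2; 2, 1, 2, 0, 2, 2] : Matrix (Fin 6) (Fin 6) (ZMod 3)).submatrix finSumFinEquiv finSumFinEquiv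

theorem wit14_mem : wit14 * Matrix.J (Fin 3) (ZMod 3) * wit14ᵀ = Matrix.J (Fin 3) (ZMod 3) := by decide +kernel

theorem wit14_pow : wit14 ^ 14 = -1 := by decide +kernel

theorem wit14_pow_2 : wit14 ^ 2 ≠ 1 ∧ wit14 ^ 2 ≠ -1 := by decide +kernel

theorem wit14_pow_7 : wit14 ^ 7 ≠ 1 ∧ wit14 ^ 7 ≠ -1 := by decide +kernel

def wit15 : Matrix (Fin 3 ⊕ Fin 3) (Fin 3 ⊕ Fin 3) (ZMod 3) :=
  (!![0, 0, 1, 0, 0, 0; 1, 1, 1, 0, 1, 0; 2, 0, 2, 1, 2, 0; 0, 2, 1, 1, 0, 1; 2, 0, 1, 1, 0, 0; 0, 1, 2, 0, 1, 0] : Matrix (Fin 6) (Fin 6) (ZMod 3)).submatrix finSumFinEquiv finSumFinEquiv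

theorem wit15_mem : wit15 * Matrix.J (Fin 3) (ZMod 3) * wit15ᵀ = Matrix.J (Fin 3) (ZMod 3) := by decide +kernel

theorem wit15_pow : wit15 ^ 15 = 1 := by decide +kernel

theorem wit15_pow_3 : wit15 ^ 3 ≠ 1 ∧ wit15 ^ 3 ≠ -1 := by decide +kernel

theorem wit15_pow_5 : wit15 ^ 5 ≠ 1 ∧ wit15 ^ 5 ≠ -1 := by decide +kernel

end CfsgLib.PrimeGraphSp63
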