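import Cfsg.Agent.Lib.PrimeGraphSp63.Commutant
import Cfsg.Agent.Lib.PrimeGraphSp63.Witness
import Cfsg.Agent.Lib.SympTransvection
import Cfsg.Agent.S0245
import Cfsg.Prelude.Def_Classical

/-!
The prime graph of `PSp_6(3)`: edges 2-3, 2-5, 2-7, 3-5.
-/

set_option autoImplicit false

namespace CfsgLib.PrimeGraphSp63

open Polynomial Matrix

/-- The edges. -/
def edgeSet : Finset ℕ := {6, 10, 14, 15}

/-- The primes. -/
def primeSet : Finset ℕ := {2, 3, 5, 7, 13}

variable {F : Type*} [Field F] [Fintype F]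

local notation "Sp6" => Matrix.symplecticGroup (Fin 3) F
local notation "Z6" => Subgroup.center (Matrix.symplecticGroup (Fin 3) F)

theorem mem_center_iff (hF : Fintype.card F = 3) (x : Sp6) : x ∈ Z6 ↔ x.1 = 1 ∨ x.1 = -1 := by
  constructor
  · intro hx
    obtain ⟨r, hr⟩ := SympTransvection.scalar_of_central x hx
    have h2 : r ^ 2 = 1 := (SympTransvection.scalar_mem_iff (by norm_num) r).mp (hr ▸ x.2)
    rw [hr]
    rcases sq_eq_one_iff.mp h2 with rfl | rfl
    · left; exact map_one _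
    · right; rw [map_neg, map_one]
  · intro h
    rw [Subgroup.mem_center_iff]
    intro g
    apply Subtype.ext
    show g.1 * x.1 = x.1 * g.1
    rcases h with h | h <;> rw [h] <;> simp

theorem transpose_rel (x : Sp6) :
    Matrix.J (Fin 3) F * x.1ᵀ = (x⁻¹ : Sp6).1 * Matrix.J (Fin 3) F := by
  have h := SymplecticGroup.mem_iff.mp x.2
  have h1 : (x⁻¹ : Sp6).1 * x.1 = 1 := congrArg Subtype.val (inv_mul_cancel x)
  calc Matrix.J (Fin 3) F * x.1ᵀ = (x⁻¹ : Sp6).1 * (x.1 * Matrix.J (Fin 3) F * x.1ᵀ) := by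
        rw [← mul_assoc, ← mul_assoc, h1, one_mul]
    _ = _ := by rw [h]

theorem aeval_rel (x : Sp6) (P : F[X]) :
    Matrix.J (Fin 3) F * (aeval x.1 P)ᵀ = aeval (x⁻¹ : Sp6).1 P * Matrix.J (Fin 3) F := by
  induction P using Polynomial.induction_on' with
  | add P Q hP hQ => rw [map_add, map_add, Matrix.transpose_add, mul_add, add_mul, hP, hQ]
  | monomial k a =>
    rw [aeval_monomial, aeval_monomial, ← Algebra.smul_def, ← Algebra.smul_def, Matrix.transpose_smul,
      Matrix.transpose_pow, Matrix.mul_smul, Matrix.smul_mul]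
    congr 1
    induction k with
    | zero => simp
    | succ k ih => rw [pow_succ, pow_succ, ← mul_assoc, ih, mul_assoc, transpose_rel, ← mul_assoc]

theorem rev_minpoly (x : Sp6) : aeval (x⁻¹ : Sp6).1 (minpoly F x.1) = 0 := by
  have h := aeval_rel x (minpoly F x.1)
  rw [minpoly.aeval, Matrix.transpose_zero, mul_zero] at h
  have h2 : Matrix.J (Fin 3) F * Matrix.J (Fin 3) F = -1 := Matrix.J_squared _ _
  have h3 := congrArg (· * Matrix.J (Fin 3) F) h.symm
  simp only [zero_mul, mul_assoc, h2, mul_neg, mul_one, neg_eq_zero] at h3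
  exact h3

theorem form_poly (x y : Sp6) (P : F[X]) (hP : y.1 = aeval x.1 P) :
    aeval (x⁻¹ : Sp6).1 P * y.1 = 1 := by
  have h : y.1 * Matrix.J (Fin 3) F * y.1ᵀ = Matrix.J (Fin 3) F := SymplecticGroup.mem_iff.mp y.2
  rw [mul_assoc, show y.1ᵀ = (aeval x.1 P)ᵀ by rw [hP], aeval_rel, ← mul_assoc] at h
  have h3 := congrArg (· * Matrix.J (Fin 3) F) h
  simp only [mul_assoc, Matrix.J_squared, mul_neg, mul_one, neg_inj] at h3
  exact mul_eq_one_comm.mp h3

variable (hF : Fintype.card F = 3)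
include hF

/-- Commutants of elements of order 7 and 13. -/
theorem pow_commute {r : ℕ} (hr : r = 7 ∨ r = 13) {a b : Sp6} (ha : a ^ r = 1) (ha1 : a ≠ 1)
    (hab : Commute a b) : b ^ (if r = 7 then 728 else 26) = 1 ∧
      (r = 13 → b * b = 1 → b.1 = 1 ∨ b.1 = -1) := by
  have hM : a.1 ^ r = 1 := congrArg Subtype.val ha
  have hM1 : a.1 ≠ 1 := fun h => ha1 (Subtype.ext h)
  have hc : Commute b.1 a.1 := (congrArg Subtype.val hab.eq).symm
  have hu : IsUnit b.1 := IsUnit.of_mul_eq_one (a := b.1) (b⁻¹ : Sp6).1 (congrArg Subtype.val (mul_inv_cancel b))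
  rcases hr with rfl | rfl
  · refine ⟨Subtype.ext ?_, fun h => absurd h (by norm_num)⟩
    exact commutant_seven hF (by simp) hM hM1 hc hu
  · obtain ⟨h26, P, hP, hpm⟩ := commutant_thirteen hF (by simp) (N := (a⁻¹ : Sp6).1) hM hM1
      (congrArg Subtype.val (mul_inv_cancel a)) (rev_minpoly a) hc hu
    refine ⟨Subtype.ext h26, fun _ hbb => hpm (congrArg Subtype.val hbb) (form_poly a b P hP)⟩

/-- Absent odd orders. -/
theorem no_odd {r s : ℕ} (hr : r = 7 ∨ r = 13) (hs : s.Prime) (hs2 : s ≠ 2)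
    (hnd : ¬ s ∣ (if r = 7 then 728 else 26)) (hrs : r ≠ s) :
    ¬ ∃ g : Cfsg.PSp 3 F, orderOf g = r * s := by
  rintro ⟨g, hg⟩
  obtain ⟨x, rfl⟩ := QuotientGroup.mk'_surjective Z6 g
  set π := QuotientGroup.mk' Z6
  have hrp : r.Prime := by rcases hr with rfl | rfl <;> norm_num
  have hn : x ^ (r * s) ∈ Z6 := by
    rw [← QuotientGroup.eq_one_iff]
    show π (x ^ (r * s)) = 1
    rw [map_pow, ← hg, pow_orderOf_eq_one]
  set y := x ^ 2
  have hy : y ^ (r * s) = 1 := by
    apply Subtype.ext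
    show ((x ^ 2) ^ (r * s)).1 = 1
    rw [← pow_mul, mul_comm 2 (r * s), pow_mul]
    show (x ^ (r * s)).1 ^ 2 = 1
    rcases (mem_center_iff hF _).mp hn with h | h <;> rw [h] <;> simp
  have hyo : orderOf y = r * s := by
    refine Nat.dvd_antisymm (orderOf_dvd_of_pow_eq_one hy) ?_
    have h1 : orderOf (π y) ∣ orderOf y := orderOf_map_dvd π y
    have h2 : orderOf (π y) = r * s := by
      rw [map_pow, Nat.Coprime.orderOf_pow, hg]
      rw [hg]
      exact Nat.Coprime.mul_left ((Nat.coprime_primes hrp Nat.prime_two).mpr (by rcases hr with rfl | rfl <;> norm_num))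
        ((Nat.coprime_primes hs Nat.prime_two).mpr hs2)
    rwa [h2] at h1
  have ha : (y ^ s) ^ r = 1 := by rw [← pow_mul, mul_comm, hy]
  have ha1 : y ^ s ≠ 1 := fun h => by
    have := orderOf_dvd_of_pow_eq_one h
    rw [hyo] at this
    exact hrs ((Nat.prime_dvd_prime_iff_eq hrp hs).mp ((dvd_mul_right r s).trans this))
  obtain ⟨hb, -⟩ := pow_commute hF hr ha ha1 ((Commute.refl y).pow_pow s r)
  rw [← pow_mul] at hb
  have hd := orderOf_dvd_of_pow_eq_one hb
  rw [hyo] at hd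
  exact hnd (Nat.dvd_of_mul_dvd_mul_left hrp.pos hd)

theorem no_twentysix : ¬ ∃ g : Cfsg.PSp 3 F, orderOf g = 26 := by
  rintro ⟨g, hg⟩
  obtain ⟨x, rfl⟩ := QuotientGroup.mk'_surjective Z6 g
  set π := QuotientGroup.mk' Z6
  have hn : x ^ 26 ∈ Z6 := by
    rw [← QuotientGroup.eq_one_iff]
    show π (x ^ 26) = 1
    rw [map_pow, ← hg, pow_orderOf_eq_one]
  have h52 : x ^ 52 = 1 := by
    apply Subtype.ext
    rw [show 52 = 26 * 2 by norm_num, pow_mul]
    show (x ^ 26).1 ^ 2 = 1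
    rcases (mem_center_iff hF _).mp hn with h | h <;> rw [h] <;> simp
  have hlt : ∀ k, 0 < k → k < 26 → x ^ k ∉ Z6 := by
    intro k h1 h2 h
    rw [← QuotientGroup.eq_one_iff] at h
    have h' : π x ^ k = 1 := by rw [← map_pow]; exact h
    have := Nat.le_of_dvd h1 (orderOf_dvd_of_pow_eq_one h')
    omega
  have ha1 : x ^ 4 ≠ 1 := fun h => hlt 4 (by norm_num) (by norm_num) (h ▸ one_mem _)
  obtain ⟨hb, hpm⟩ := pow_commute hF (Or.inr rfl) (show (x ^ 4) ^ 13 = 1 by rw [← pow_mul]; exact h52) ha1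
    ((Commute.refl x).pow_pow 4 13)
  simp only [show (13 : ℕ) ≠ 7 by norm_num, if_false] at hb
  have hbb : x ^ 13 * x ^ 13 = 1 := by
    have h4 : (x ^ 13) ^ 4 = 1 := by rw [← pow_mul]; exact h52
    calc x ^ 13 * x ^ 13 = ((x ^ 13) ^ 26) * ((x ^ 13) ^ 4) ^ (-6 : ℤ) := by group
      _ = 1 := by rw [hb, h4]; simp
  exact hlt 13 (by norm_num) (by norm_num) ((mem_center_iff hF _).mpr (hpm rfl hbb))

theorem card_psp : Nat.card (Cfsg.PSp 3 F) = 4585351680 := by
  haveI : NeZero (3 : ℕ) := ⟨by norm_num⟩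
  have h1 := Subgroup.card_eq_card_quotient_mul_card_subgroup Z6
  rw [SympTransvection.card_center (by norm_num), hF, Cfsg.Agent.S0245.result hF 3] at h1
  norm_num [Finset.prod_range_succ] at h1
  show Nat.card (Sp6 ⧸ Z6) = _
  omega

theorem prime_dvd_iff (p : ℕ) (hp : p.Prime) : p ∣ Nat.card (Cfsg.PSp 3 F) ↔ p ∈ primeSet := by
  rw [card_psp hF, show (4585351680 : ℕ) = 2 ^ 9 * 3 ^ 9 * 5 * 7 * 13 by norm_num]
  simp only [hp.dvd_mul, primeSet, Finset.mem_insert, Finset.mem_singleton]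
  constructor
  · rintro ((((h | h) | h) | h) | h)
    · left; exact (Nat.prime_dvd_prime_iff_eq hp Nat.prime_two).mp (hp.dvd_of_dvd_pow h)
    · right; left; exact (Nat.prime_dvd_prime_iff_eq hp Nat.prime_three).mp (hp.dvd_of_dvd_pow h)
    · right; right; left; exact (Nat.prime_dvd_prime_iff_eq hp (by norm_num)).mp h
    · right; right; right; left; exact (Nat.prime_dvd_prime_iff_eq hp (by norm_num)).mp h
    · right; right; right; right; exact (Nat.prime_dvd_prime_iff_eq hp (by norm_num)).mp h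
  · rintro (rfl | rfl | rfl | rfl | rfl) <;> norm_num

omit [Fintype F] hF in
theorem exists_of_witness [CharP F 3] (n : ℕ) (W : Matrix (Fin 3 ⊕ Fin 3) (Fin 3 ⊕ Fin 3) (ZMod 3))
    (hW : W * Matrix.J (Fin 3) (ZMod 3) * Wᵀ = Matrix.J (Fin 3) (ZMod 3))
    (hpow : W ^ n = 1 ∨ W ^ n = -1) (hsmall : ∀ p : ℕ, p.Prime → p ∣ n → W ^ (n / p) ≠ 1 ∧ W ^ (n / p) ≠ -1)
    (hn : 0 < n) (hc : ∀ x : Sp6, x ∈ Z6 ↔ x.1 = 1 ∨ x.1 = -1) :
    ∃ g : Cfsg.PSp 3 F, orderOf g = n := by
  set f : ZMod 3 →+* F := ZMod.castHom dvd_rfl F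
  have hJ : (Matrix.J (Fin 3) (ZMod 3)).map f = Matrix.J (Fin 3) F := by
    ext i j; cases i <;> cases j <;> simp [Matrix.J, Matrix.one_apply, apply_ite f]
  let x : Sp6 := ⟨f.mapMatrix W, SymplecticGroup.mem_iff.mpr (by
    rw [RingHom.mapMatrix_apply, ← hJ, ← Matrix.transpose_map, ← Matrix.map_mul, ← Matrix.map_mul, hW])⟩
  have hinj : Function.Injective (f.mapMatrix (m := Fin 3 ⊕ Fin 3)) := Matrix.map_injective f.injective
  have key : ∀ k : ℕ, (QuotientGroup.mk' Z6 x) ^ k = 1 ↔ W ^ k = 1 ∨ W ^ k = -1 := by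
    intro k
    rw [← map_pow]
    show ((x ^ k : Sp6) : Sp6 ⧸ Z6) = 1 ↔ _
    rw [QuotientGroup.eq_one_iff, hc]
    show f.mapMatrix W ^ k = 1 ∨ f.mapMatrix W ^ k = -1 ↔ _
    rw [← map_pow, map_eq_one_iff _ hinj, show (-1 : Matrix (Fin 3 ⊕ Fin 3) (Fin 3 ⊕ Fin 3) F) = f.mapMatrix (-1) by
      rw [map_neg, map_one], hinj.eq_iff]
  refine ⟨QuotientGroup.mk' Z6 x, orderOf_eq_of_pow_and_pow_div_prime hn ((key n).mpr hpow) fun p hp hd => ?_⟩
  rw [Ne, key, not_or]
  exact hsmall p hp hd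

/-- The prime graph of `PSp_6(3)`. -/
theorem graph_psp (p q : ℕ) (hp : p.Prime) (hq : q.Prime) (hpq : p ≠ q) :
    (∃ g : Cfsg.PSp 3 F, orderOf g = p * q) ↔ p * q ∈ edgeSet := by
  constructor
  · rintro ⟨g, hg⟩
    have hp' := (prime_dvd_iff hF p hp).mp ((dvd_mul_right p q).trans (hg ▸ orderOf_dvd_natCard g))
    have hq' := (prime_dvd_iff hF q hq).mp ((dvd_mul_left q p).trans (hg ▸ orderOf_dvd_natCard g))
    have e26 := no_twentysix hF
    have e35 := no_odd hF (r := 7) (s := 5) (Or.inl rfl) (by norm_num) (by norm_num) (by norm_num) (by norm_num)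
    have e21 := no_odd hF (r := 7) (s := 3) (Or.inl rfl) (by norm_num) (by norm_num) (by norm_num) (by norm_num)
    have e39 := no_odd hF (r := 13) (s := 3) (Or.inr rfl) (by norm_num) (by norm_num) (by norm_num) (by norm_num)
    have e65 := no_odd hF (r := 13) (s := 5) (Or.inr rfl) (by norm_num) (by norm_num) (by norm_num) (by norm_num)
    have e91 := no_odd hF (r := 13) (s := 7) (Or.inr rfl) (by norm_num) (by norm_num) (by norm_num) (by norm_num)
    have n26 : p * q ≠ 26 := fun h => e26 ⟨g, hg.trans h⟩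
    have n35 : p * q ≠ 7 * 5 := fun h => e35 ⟨g, hg.trans h⟩
    have n21 : p * q ≠ 7 * 3 := fun h => e21 ⟨g, hg.trans h⟩
    have n39 : p * q ≠ 13 * 3 := fun h => e39 ⟨g, hg.trans h⟩
    have n65 : p * q ≠ 13 * 5 := fun h => e65 ⟨g, hg.trans h⟩
    have n91 : p * q ≠ 13 * 7 := fun h => e91 ⟨g, hg.trans h⟩
    simp only [primeSet, Finset.mem_insert, Finset.mem_singleton] at hp' hq'
    simp only [edgeSet, Finset.mem_insert, Finset.mem_singleton]
    rcases hp' with rfl | rfl | rfl | rfl | rfl <;> rcases hq' with rfl | rfl | rfl | rfl | rfl <;>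
      omega
  · intro h
    haveI : Fact (Nat.Prime 3) := ⟨Nat.prime_three⟩
    haveI : CharP F 3 := charP_of_card_eq_prime hF
    have hc := mem_center_iff (F := F) hF
    have two : ∀ {r a b : ℕ}, r.Prime → a.Prime → b.Prime → r ∣ a * b → r = a ∨ r = b := by
      intro r a b hr ha hb hd
      rcases hr.dvd_mul.mp hd with h | h
      · exact Or.inl ((Nat.prime_dvd_prime_iff_eq hr ha).mp h)
      · exact Or.inr ((Nat.prime_dvd_prime_iff_eq hr hb).mp h)
    simp only [edgeSet, Finset.mem_insert, Finset.mem_singleton] at h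
    rcases h with h | h | h | h <;> rw [h]
    · refine exists_of_witness 6 wit6 wit6_mem (Or.inl wit6_pow) (fun r hr hd => ?_) (by norm_num) hc
      rcases two hr (a := 2) (b := 3) (by norm_num) (by norm_num) hd with rfl | rfl
      · exact wit6_pow_3
      · exact wit6_pow_2
    · refine exists_of_witness 10 wit10 wit10_mem (Or.inl wit10_pow) (fun r hr hd => ?_) (by norm_num) hc
      rcases two hr (a := 2) (b := 5) (by norm_num) (by norm_num) hd with rfl | rfl
      · exact wit10_pow_5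
      · exact wit10_pow_2
    · refine exists_of_witness 14 wit14 wit14_mem (Or.inr wit14_pow) (fun r hr hd => ?_) (by norm_num) hc
      rcases two hr (a := 2) (b := 7) (by norm_num) (by norm_num) hd with rfl | rfl
      · exact wit14_pow_7
      · exact wit14_pow_2
    · refine exists_of_witness 15 wit15 wit15_mem (Or.inl wit15_pow) (fun r hr hd => ?_) (by norm_num) hc
      rcases two hr (a := 3) (b := 5) (by norm_num) (by norm_num) hd with rfl | rfl
      · exact wit15_pow_5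
      · exact wit15_pow_3

end CfsgLib.PrimeGraphSp63
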