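import Cfsg.Agent.Lib.PrimeGraphSp63.SuzukiGraph
import Cfsg.Agent.Lib.PrimeGraphSp63.Symplectic

/-!
Arbitrarily large groups `W ⋊ Sz(8).3` with the prime graph of `PSp_6(3)`.
-/

set_option autoImplicit false

namespace CfsgLib.PrimeGraphSp63

open Matrix CfsgLib.Suzuki

variable {F : Type*} [Field F] [Fintype F] [DecidableEq F] (hF : Fintype.card F = 2 ^ (2 * 1 + 1))

set_option quotPrecheck false in
local notation "L8" => ↥(Cfsg.Sz F 1)
local notation "M4" => Matrix (Fin 4) (Fin 4) F

/-- The module. -/
abbrev Mod4 (F : Type*) (k : ℕ) : Type _ := Multiplicative (Fin k → Matrix (Fin 4) (Fin 4) F)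

include hF

/-- The action on the module. -/
noncomputable def modAct (k : ℕ) : AutSz hF →* MulAut (Mod4 F k) where
  toFun a := AddEquiv.toMultiplicative
    { toFun := fun w i => matAct hF a (w i)
      invFun := fun w i => matAct hF a⁻¹ (w i)
      left_inv := fun w => funext fun i => by
        show matAct hF a⁻¹ (matAct hF a (w i)) = w i
        rw [← matAct_mul, inv_mul_cancel, matAct_one]
      right_inv := fun w => funext fun i => by
        show matAct hF a (matAct hF a⁻¹ (w i)) = w i
        rw [← matAct_mul, mul_inv_cancel, matAct_one]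
      map_add' := fun u v => funext fun i => matAct_add hF a (u i) (v i) }
  map_one' := MulEquiv.ext fun w => congrArg Multiplicative.ofAdd (funext fun i => matAct_one hF _)
  map_mul' a b := MulEquiv.ext fun w => congrArg Multiplicative.ofAdd (funext fun i => matAct_mul hF a b _)

theorem modAct_apply (k : ℕ) (a : AutSz hF) (w : Mod4 F k) (i : Fin k) :
    Multiplicative.toAdd (modAct hF k a w) i = matAct hF a (Multiplicative.toAdd w i) := rfl

/-- The model. -/
abbrev Big (k : ℕ) : Type _ := SemidirectProduct (Mod4 F k) (AutSz hF) (modAct hF k)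

theorem finite_big (k : ℕ) : Finite (Big hF k) := by
  haveI := finite_autSz hF
  exact Finite.of_equiv _ SemidirectProduct.equivProd.symm

theorem card_big (k : ℕ) : Nat.card (Big hF k) = 8 ^ (16 * k) * (29120 * 3) := by
  rw [Nat.card_congr SemidirectProduct.equivProd, Nat.card_prod, card_autSz hF]
  congr 1
  rw [show Nat.card (Mod4 F k) = Nat.card (Fin k → Fin 4 → Fin 4 → F) from rfl, Nat.card_fun,
    Nat.card_fun, Nat.card_fun, Nat.card_fin, Nat.card_fin, Nat.card_eq_fintype_card, hF]
  show (((2 ^ (2 * 1 + 1) : ℕ) ^ 4) ^ 4) ^ k = 8 ^ (16 * k)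
  rw [← pow_mul, ← pow_mul, show 4 * (4 * k) = 16 * k by ring, show (2 : ℕ) ^ (2 * 1 + 1) = 8 by norm_num]

theorem sq_mod (k : ℕ) (w : Mod4 F k) : w * w = 1 := by
  haveI := charTwo hF
  exact Multiplicative.toAdd.injective
    (funext fun i => Matrix.ext fun a b => CharTwo.add_self_eq_zero _)

omit hF in
theorem order_mul {G : Type*} [Group G] {x y : G} {a b : ℕ} (hx : orderOf x = a) (hy : orderOf y = b)
    (hab : Nat.Coprime a b) (hc : Commute x y) : orderOf (x * y) = a * b := by
  rw [hc.orderOf_mul_eq_mul_orderOf_of_coprime (by rw [hx, hy]; exact hab), hx, hy]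

/-- A fixed vector of the module for an element of odd prime order gives an edge at 2. -/
theorem edge_two {k : ℕ} (hk : 0 < k) {a : AutSz hF} {r : ℕ} (hr : r.Prime) (hr2 : r ≠ 2) (ha : orderOf a = r)
    {X : M4} (hX : X ≠ 0) (hfix : matAct hF a X = X) : ∃ h : Big hF k, orderOf h = 2 * r := by
  haveI : Fact (Nat.Prime 2) := ⟨Nat.prime_two⟩
  set w : Mod4 F k := Multiplicative.ofAdd (fun _ => X)
  have hw1 : w ≠ 1 := fun h => hX (congrFun (congrArg Multiplicative.toAdd h) ⟨0, hk⟩)
  have hw : orderOf w = 2 := orderOf_eq_prime (by rw [sq]; exact sq_mod hF k w) hw1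
  refine ⟨SemidirectProduct.inl w * SemidirectProduct.inr a, order_mul
    (by rw [orderOf_injective _ SemidirectProduct.inl_injective, hw])
    (by rw [orderOf_injective _ SemidirectProduct.inr_injective, ha])
    ((Nat.coprime_primes Nat.prime_two hr).mpr (Ne.symm hr2)) ?_⟩
  have h : modAct hF k a w = w := by
    apply Multiplicative.toAdd.injective
    funext i
    exact hfix
  have h2 := SemidirectProduct.inl_aut (φ := modAct hF k) a w
  rw [h, map_inv] at h2
  show SemidirectProduct.inl w * SemidirectProduct.inr a = SemidirectProduct.inr a * SemidirectProduct.inl w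
  conv_lhs => rw [h2]
  group

/-- Edges of the model come from `Sz(8).3` or from fixed vectors. -/
theorem edge_cases {k : ℕ} {p q : ℕ} (hp : p.Prime) (hq : q.Prime) (hpq : p ≠ q) {h : Big hF k}
    (hh : orderOf h = p * q) :
    (∃ a : AutSz hF, orderOf a = p * q) ∨
      ∃ (r : ℕ) (a : AutSz hF) (X : M4), p * q = 2 * r ∧ orderOf a = r ∧ X ≠ 0 ∧ matAct hF a X = X := by
  set π : Big hF k →* AutSz hF := SemidirectProduct.rightHom
  by_cases hd : orderOf (π h) = p * q
  · exact Or.inl ⟨π h, hd⟩
  right
  set d := orderOf (π h) with hd'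
  have hdvd : d ∣ p * q := hh ▸ orderOf_map_dvd π h
  set t := h ^ d with ht
  have ht1 : π t = 1 := by rw [ht, map_pow, hd', pow_orderOf_eq_one]
  have htl : t = SemidirectProduct.inl t.left := SemidirectProduct.ext (by simp) (by simpa [π] using ht1)
  have ht2 : t * t = 1 := by rw [htl, ← map_mul, sq_mod hF, map_one]
  have hdlt : d < p * q := lt_of_le_of_ne (Nat.le_of_dvd (Nat.mul_pos hp.pos hq.pos) hdvd) hd
  have hdpos : 0 < d := Nat.pos_of_dvd_of_pos hdvd (Nat.mul_pos hp.pos hq.pos)
  have htne : t ≠ 1 := pow_ne_one_of_lt_orderOf hdpos.ne' (by rw [hh]; exact hdlt)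
  have h2d : p * q ∣ 2 * d := by
    rw [← hh]
    apply orderOf_dvd_of_pow_eq_one
    rw [two_mul, pow_add]; exact ht2
  have he : p * q = 2 * d := by
    obtain ⟨c, hc⟩ := h2d
    obtain ⟨e, he⟩ := hdvd
    rw [he] at hc
    have hce : e * c = 2 := by
      have : d * (e * c) = d * 2 := by rw [← mul_assoc, ← hc, mul_comm]
      exact Nat.eq_of_mul_eq_mul_left hdpos this
    have he1 : e ≠ 1 := by rintro rfl; rw [mul_one] at he; exact hd he.symm
    rcases (Nat.dvd_prime Nat.prime_two).mp (Dvd.intro c hce) with e1 | e1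
    · exact absurd e1 he1
    · rw [he, e1, mul_comm]
  have hcomm : h * t = t * h := (Commute.refl h).pow_right d
  have hfix' := congrArg SemidirectProduct.left hcomm
  rw [SemidirectProduct.mul_left, SemidirectProduct.mul_left, show t.right = 1 from ht1, map_one,
    MulAut.one_apply, mul_comm h.left, mul_right_cancel_iff] at hfix'
  obtain ⟨i, hi⟩ : ∃ i, (Multiplicative.toAdd t.left) i ≠ 0 := by
    by_contra hcon
    push Not at hcon
    exact htne (by rw [htl, show t.left = 1 from Multiplicative.toAdd.injective (funext hcon), map_one])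
  exact ⟨d, π h, _, he, rfl, hi, congrArg (fun w : Mod4 F k => Multiplicative.toAdd w i) hfix'⟩

theorem exists_five : ∃ g : L8, orderOf g = 5 ∧ ringEnd hF (sq2 hF) g = g := by
  haveI := charTwo hF
  haveI : Fact (Nat.Prime 5) := ⟨by norm_num⟩
  have h2 : (2 : F) = 0 := two_eq_zero hF
  refine ⟨uS hF 0 1 * wS hF, ?_, ?_⟩
  · let B : Matrix (Fin 4) (Fin 4) (ZMod 2) := !![1, 0, 1, 1; 0, 1, 0, 1; 0, 0, 1, 0; 0, 0, 0, 1] * !![0, 0, 0, 1; 0, 0, 1, 0; 0, 1, 0, 0; 1, 0, 0, 0]
    set f : ZMod 2 →+* F := ZMod.castHom dvd_rfl F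
    have hB : mt (uS hF 0 1 * wS hF) = f.mapMatrix B := by
      rw [mt_mul, map_mul]
      congr 1
      · show mU 1 (0 : F) 1 = _
        ext i j
        fin_cases i <;> fin_cases j <;> simp [mU, fp, th, f]
      · show (mW : M4) = _
        ext i j
        fin_cases i <;> fin_cases j <;> simp [mW, f]
    have hinj : Function.Injective (f.mapMatrix (m := Fin 4)) := Matrix.map_injective f.injective
    refine orderOf_eq_prime (mt_injective ?_) ?_
    · show ((uS hF 0 1 * wS hF) ^ 5).1.1 = 1
      rw [mat_pow]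
      show mt (uS hF 0 1 * wS hF) ^ 5 = 1
      rw [hB, ← map_pow, show B ^ 5 = 1 by decide +kernel, map_one]
    · intro h
      have h' := hB
      rw [h, mt_one, ← map_one (f.mapMatrix (m := Fin 4))] at h'
      exact absurd (hinj h').symm (by decide +kernel)
  · rw [map_mul]
    congr 1
    · apply mt_injective
      rw [ringEnd_mt]
      show (sq2 hF : F →+* F).mapMatrix (mU 1 (0 : F) 1) = mU 1 0 1
      ext i j
      fin_cases i <;> fin_cases j <;> simp [mU, fp, th]
    · apply mt_injective
      rw [ringEnd_mt]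
      show (sq2 hF : F →+* F).mapMatrix (mW : M4) = mW
      ext i j
      fin_cases i <;> fin_cases j <;> simp [mW]

theorem edge_six {k : ℕ} : ∃ h : Big hF k, orderOf h = 6 := by
  haveI : Fact (Nat.Prime 2) := ⟨Nat.prime_two⟩
  haveI := charTwo hF
  have hu : orderOf (uS hF (0 : F) 1 : L8) = 2 := by
    refine orderOf_eq_prime ?_ ?_
    · rw [sq, uS_sq, th_zero, zero_mul]
      exact (eq_one_iff_uS hF).mpr ⟨rfl, rfl⟩
    · intro h
      exact one_ne_zero ((eq_one_iff_uS hF).mp h).2
  have hfix : ringEnd hF (sq2 hF) (uS hF (0 : F) 1) = uS hF 0 1 := by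
    apply mt_injective
    rw [ringEnd_mt]
    show (sq2 hF : F →+* F).mapMatrix (mU 1 (0 : F) 1) = mU 1 0 1
    ext i j
    fin_cases i <;> fin_cases j <;> simp [mU, fp, th]
  set a : AutSz hF := SemidirectProduct.inl (uS hF (0 : F) 1) * SemidirectProduct.inr (sq2 hF)
  have ha : orderOf a = 6 := by
    refine order_mul (a := 2) (b := 3) (by rw [orderOf_injective _ SemidirectProduct.inl_injective, hu])
      (by rw [orderOf_injective _ SemidirectProduct.inr_injective, orderOf_sq2]) (by norm_num) ?_
    have h2 := SemidirectProduct.inl_aut (φ := ringAct hF) (sq2 hF) (uS hF (0 : F) 1)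
    rw [ringAct_apply, hfix, map_inv] at h2
    show SemidirectProduct.inl _ * SemidirectProduct.inr _ = SemidirectProduct.inr _ * SemidirectProduct.inl _
    conv_lhs => rw [h2]
    group
  exact ⟨SemidirectProduct.inr a, by rw [orderOf_injective _ SemidirectProduct.inr_injective, ha]⟩

theorem edge_fifteen {k : ℕ} : ∃ h : Big hF k, orderOf h = 15 := by
  obtain ⟨g, hg, hfix⟩ := exists_five hF
  set a : AutSz hF := SemidirectProduct.inl g * SemidirectProduct.inr (sq2 hF)
  have ha : orderOf a = 15 := by
    refine order_mul (a := 5) (b := 3) (by rw [orderOf_injective _ SemidirectProduct.inl_injective, hg])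
      (by rw [orderOf_injective _ SemidirectProduct.inr_injective, orderOf_sq2]) (by norm_num) ?_
    have h2 := SemidirectProduct.inl_aut (φ := ringAct hF) (sq2 hF) g
    rw [ringAct_apply, hfix, map_inv] at h2
    show SemidirectProduct.inl _ * SemidirectProduct.inr _ = SemidirectProduct.inr _ * SemidirectProduct.inl _
    conv_lhs => rw [h2]
    group
  exact ⟨SemidirectProduct.inr a, by rw [orderOf_injective _ SemidirectProduct.inr_injective, ha]⟩

theorem edge_ten {k : ℕ} (hk : 0 < k) : ∃ h : Big hF k, orderOf h = 10 := by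
  obtain ⟨g, hg, hfix⟩ := exists_five hF
  refine edge_two hF hk (a := SemidirectProduct.inl g) (r := 5) (by norm_num) (by norm_num)
    (by rw [orderOf_injective _ SemidirectProduct.inl_injective, hg]) (X := 1) one_ne_zero ?_
  have e : sqM hF (mt g⁻¹) = mt g⁻¹ := by
    show (sq2 hF : F →+* F).mapMatrix (mt g⁻¹) = _
    rw [← ringEnd_mt hF, map_inv, hfix]
  simp only [matAct, SemidirectProduct.left_inl, SemidirectProduct.right_inl, map_one, mul_one, e, mt_mul_inv]

theorem edge_fourteen {k : ℕ} (hk : 0 < k) : ∃ h : Big hF k, orderOf h = 14 := by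
  haveI : Fact (Nat.Prime 7) := ⟨by norm_num⟩
  obtain ⟨t, ht⟩ := exists_unit_ne_one hF
  have ho : orderOf (dS hF t : L8) = 7 := by
    refine orderOf_eq_prime ?_ fun h => ht (dS_inj hF (h.trans (dS_one hF).symm))
    rw [← show dHomS hF t = dS hF t from rfl, ← map_pow, unit_pow_seven hF, map_one]
  refine edge_two hF hk (a := SemidirectProduct.inl (dS hF t)) (r := 7) (by norm_num) (by norm_num)
    (by rw [orderOf_injective _ SemidirectProduct.inl_injective, ho])
    (X := Matrix.single 0 2 (1 : F)) (fun h => one_ne_zero (α := F) (by simpa using congrFun (congrFun h 0) 2)) ?_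
  have h7 : (t : F) ^ 7 = 1 := by
    rw [← Units.val_pow_eq_pow_val, unit_pow_seven hF, Units.val_one]
  have e1 : mt (dS hF t)⁻¹ = mD 1 ((t⁻¹ : Fˣ) : F) := by
    rw [← show dHomS hF t = dS hF t from rfl, ← map_inv]
    rfl
  simp only [matAct, SemidirectProduct.left_inl, SemidirectProduct.right_inl, e1]
  show mD 1 (t : F) * Matrix.single 0 2 (1 : F) * (sq2 hF : F →+* F).mapMatrix (mD 1 ((t⁻¹ : Fˣ) : F)) = _
  rw [mD, mD, RingHom.mapMatrix_apply, Matrix.diagonal_map (map_zero _)]
  ext i j
  rw [Matrix.mul_diagonal, Matrix.diagonal_mul]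
  fin_cases i <;> fin_cases j <;>
    simp [Matrix.single, sq2_apply, th, Units.val_inv_eq_inv_val, ← pow_succ, ← pow_mul]
  rw [← pow_add]
  exact h7

theorem dvd_big_iff {k : ℕ} (hk : 0 < k) (p : ℕ) (hp : p.Prime) : p ∣ Nat.card (Big hF k) ↔ p ∈ primeSet := by
  rw [card_big hF, show 29120 * 3 = 2 ^ 6 * 3 * 5 * 7 * 13 by norm_num]
  simp only [hp.dvd_mul, primeSet, Finset.mem_insert, Finset.mem_singleton]
  constructor
  · rintro (h | ((((h | h) | h) | h) | h))
    · left; exact (Nat.prime_dvd_prime_iff_eq hp Nat.prime_two).mp (hp.dvd_of_dvd_pow (show p ∣ 2 ^ (3 * (16 * k)) by rwa [pow_mul]))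
    · left; exact (Nat.prime_dvd_prime_iff_eq hp Nat.prime_two).mp (hp.dvd_of_dvd_pow h)
    · right; left; exact (Nat.prime_dvd_prime_iff_eq hp Nat.prime_three).mp h
    · right; right; left; exact (Nat.prime_dvd_prime_iff_eq hp (by norm_num)).mp h
    · right; right; right; left; exact (Nat.prime_dvd_prime_iff_eq hp (by norm_num)).mp h
    · right; right; right; right; exact (Nat.prime_dvd_prime_iff_eq hp (by norm_num)).mp h
  · rintro (rfl | rfl | rfl | rfl | rfl) <;> norm_num

theorem graph_big {k : ℕ} (hk : 0 < k) (p q : ℕ) (hp : p.Prime) (hq : q.Prime) (hpq : p ≠ q) :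
    (∃ h : Big hF k, orderOf h = p * q) ↔ p * q ∈ edgeSet := by
  haveI := finite_autSz hF
  simp only [edgeSet, Finset.mem_insert, Finset.mem_singleton]
  constructor
  · rintro ⟨h, hh⟩
    rcases edge_cases hF hp hq hpq hh with ⟨a, ha⟩ | ⟨r, a, X, he, ha, hX, hfix⟩
    · rcases edge_autSz hF hp hq hpq ha with e | e <;> omega
    · haveI := finite_big hF k
      have hr : r.Prime := by
        rcases (Nat.prime_two.dvd_mul.mp ⟨r, he⟩) with h' | h'
        · have := (Nat.prime_dvd_prime_iff_eq Nat.prime_two hp).mp h'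
          rw [← this] at he
          rwa [← Nat.eq_of_mul_eq_mul_left two_pos he]
        · have := (Nat.prime_dvd_prime_iff_eq Nat.prime_two hq).mp h'
          rw [← this, mul_comm] at he
          rwa [← Nat.eq_of_mul_eq_mul_left two_pos he]
      have hr2 : r ≠ 2 := by
        rintro rfl
        rcases hp.eq_two_or_odd with h1 | h1 <;> rcases hq.eq_two_or_odd with h2 | h2
        · omega
        · subst h1; omega
        · subst h2; omega
        · have : (p * q) % 2 = 1 := by rw [Nat.mul_mod, h1, h2]
          omega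
      have hmem := (dvd_big_iff hF hk r hr).mp ((dvd_mul_left r 2).trans (he ▸ hh ▸ orderOf_dvd_natCard h))
      simp only [primeSet, Finset.mem_insert, Finset.mem_singleton] at hmem
      have h13 : r ≠ 13 := by
        rintro rfl
        have hp13 : a ^ 13 = 1 := by rw [← ha, pow_orderOf_eq_one]
        obtain ⟨g, rfl, hg⟩ := exists_inl hF (by norm_num) hp13
        have hg1 : g ≠ 1 := by
          rintro rfl
          rw [map_one, orderOf_one] at ha
          omega
        simp only [matAct, SemidirectProduct.left_inl, SemidirectProduct.right_inl] at hfix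
        have hfix' : mt g * X * sqM hF (mt g⁻¹) = X := hfix
        refine hX (intertwine_zero hF hg hg1 ?_)
        conv_rhs => rw [← hfix']
        rw [mul_assoc, sqM_inv_mul, mul_one]
      omega
  · rintro (e | e | e | e) <;> rw [e]
    exacts [edge_six hF, edge_ten hF hk, edge_fourteen hF hk, edge_fifteen hF]

end CfsgLib.PrimeGraphSp63
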