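import Cfsg.Agent.Lib.Suzuki.Subfield
import Cfsg.Agent.Lib.Suzuki.Partition
import Cfsg.Agent.Lib.Suzuki.Semisimple
import Cfsg.Agent.Lib.Suzuki.Fpf

/-!
`Sz(8).3` acting on 4 × 4 matrices by `X ↦ g X σ(g)⁻¹`, `σ` the squaring map.
-/

set_option autoImplicit false

namespace CfsgLib.PrimeGraphSp63

open Polynomial Matrix CfsgLib.Suzuki

variable {F : Type*} [Field F] [Fintype F] [DecidableEq F] (hF : Fintype.card F = 2 ^ (2 * 1 + 1))

set_option quotPrecheck false in
local notation "L8" => ↥(Cfsg.Sz F 1)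
local notation "M4" => Matrix (Fin 4) (Fin 4) F

/-- The matrix of an element. -/
def mt (g : L8) : M4 := g.1.1

include hF

/-- Squaring, as a ring automorphism. -/
noncomputable def sq2 : F ≃+* F := frob hF 1

theorem sq2_apply (a : F) : sq2 hF a = a ^ 2 := by
  show frob hF 1 a = a ^ 2
  rw [frob_apply, pow_one]

theorem sq2_comm (φ : F ≃+* F) (a : F) : φ (sq2 hF a) = sq2 hF (φ a) := by
  rw [sq2_apply, sq2_apply, map_pow]

theorem pow_eight (a : F) : a ^ 8 = a := by
  have := FiniteField.pow_card a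
  rw [hF] at this
  norm_num at this
  exact this

theorem sq2_cube : sq2 hF ^ 3 = 1 := by
  apply RingEquiv.ext
  intro a
  show sq2 hF (sq2 hF (sq2 hF a)) = a
  rw [sq2_apply, sq2_apply, sq2_apply, ← pow_mul, ← pow_mul]
  exact pow_eight hF a

theorem unit_pow_seven (t : Fˣ) : t ^ 7 = 1 := by
  have h : Fintype.card Fˣ = 7 := by rw [Fintype.card_units, hF]; norm_num
  rw [← h]; exact pow_card_eq_one

theorem exists_unit_ne_one : ∃ t : Fˣ, t ≠ 1 := by
  haveI : Nontrivial Fˣ := by
    rw [← Fintype.one_lt_card_iff_nontrivial, Fintype.card_units, hF]; norm_num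
  exact exists_ne 1

theorem sq2_ne_one : sq2 hF ≠ 1 := by
  intro h
  obtain ⟨t, ht⟩ := exists_unit_ne_one hF
  have h2 : sq2 hF (t : F) = t := by rw [h]; rfl
  rw [sq2_apply, sq, mul_eq_left₀ t.ne_zero] at h2
  exact ht (Units.ext h2)

theorem card_ringAut : Nat.card (F ≃+* F) = 3 := by
  haveI := charTwo hF
  haveI : Fact (Nat.Prime 2) := ⟨Nat.prime_two⟩
  letI := ZMod.algebra F 2
  let e : (F ≃+* F) ≃ (F ≃ₐ[ZMod 2] F) :=
    { toFun := fun φ => AlgEquiv.ofRingEquiv (f := φ)
        (fun x => RingHom.congr_fun (RingHom.ext_zmod (φ.toRingHom.comp (algebraMap (ZMod 2) F)) (algebraMap (ZMod 2) F)) x)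
      invFun := fun φ => φ.toRingEquiv
      left_inv := fun φ => RingEquiv.ext fun x => rfl
      right_inv := fun φ => AlgEquiv.ext fun x => rfl }
  rw [Nat.card_congr e, IsGalois.card_aut_eq_finrank]
  have h := Module.natCard_eq_pow_finrank (K := ZMod 2) (V := F)
  rw [Nat.card_eq_fintype_card, hF, Nat.card_zmod] at h
  exact (Nat.pow_right_injective le_rfl h).symm

theorem finite_ringAut : Finite (F ≃+* F) :=
  Finite.of_injective (fun φ => (φ : F → F)) DFunLike.coe_injective

theorem orderOf_sq2 : orderOf (sq2 hF) = 3 := by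
  haveI : Fact (Nat.Prime 3) := ⟨Nat.prime_three⟩
  exact orderOf_eq_prime (sq2_cube hF) (sq2_ne_one hF)

theorem ringAut_cases (φ : F ≃+* F) : φ = 1 ∨ φ = sq2 hF ∨ φ = sq2 hF * sq2 hF := by
  classical
  haveI := finite_ringAut hF
  haveI := Fintype.ofFinite (F ≃+* F)
  have hs : ({1, sq2 hF, sq2 hF * sq2 hF} : Finset (F ≃+* F)) = Finset.univ := by
    apply Finset.eq_univ_of_card
    rw [← Nat.card_eq_fintype_card, card_ringAut hF]
    have h1 := sq2_ne_one hF
    have h2 : sq2 hF * sq2 hF ≠ 1 := fun h => h1 (by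
      have := sq2_cube hF
      rwa [pow_succ, sq, h, one_mul] at this)
    have h3 : sq2 hF * sq2 hF ≠ sq2 hF := fun h => h1 (mul_eq_left.mp h)
    rw [Finset.card_insert_of_notMem, Finset.card_pair h3.symm]
    simp only [Finset.mem_insert, Finset.mem_singleton, not_or]
    exact ⟨h1.symm, h2.symm⟩
  have := Finset.mem_univ φ
  rw [← hs] at this
  simpa using this

/-- A ring automorphism as an endomorphism of `Sz(8)`. -/
noncomputable def ringEnd (φ : F ≃+* F) : L8 →* L8 := embed hF hF dvd_rfl (φ : F →+* F) le_rfl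

theorem ringEnd_mt (φ : F ≃+* F) (g : L8) : mt (ringEnd hF φ g) = (φ : F →+* F).mapMatrix (mt g) := rfl

omit hF in
theorem mt_injective : Function.Injective (mt : L8 → M4) := fun _ _ h => mat_injective h

theorem ringEnd_comp (φ ψ : F ≃+* F) (g : L8) : ringEnd hF φ (ringEnd hF ψ g) = ringEnd hF (φ * ψ) g :=
  mt_injective rfl

theorem ringEnd_one (g : L8) : ringEnd hF 1 g = g := mt_injective rfl

/-- The action of the field automorphisms. -/
noncomputable def ringAct : (F ≃+* F) →* MulAut L8 where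
  toFun φ := MulEquiv.mk'
    { toFun := ringEnd hF φ
      invFun := ringEnd hF φ⁻¹
      left_inv := fun g => by rw [ringEnd_comp, inv_mul_cancel, ringEnd_one]
      right_inv := fun g => by rw [ringEnd_comp, mul_inv_cancel, ringEnd_one] }
    (fun x y => map_mul (ringEnd hF φ) x y)
  map_one' := MulEquiv.ext fun g => ringEnd_one hF g
  map_mul' φ ψ := MulEquiv.ext fun g => (ringEnd_comp hF φ ψ g).symm

theorem ringAct_apply (φ : F ≃+* F) (g : L8) : ringAct hF φ g = ringEnd hF φ g := rfl

/-- `Sz(8).3`. -/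
abbrev AutSz : Type _ := SemidirectProduct L8 (F ≃+* F) (ringAct hF)

omit hF in
theorem mt_mul (g h : L8) : mt (g * h) = mt g * mt h := rfl

omit hF in
theorem mt_one : mt (1 : L8) = 1 := rfl

omit hF in
theorem mt_mul_inv (g : L8) : mt g * mt g⁻¹ = 1 := by rw [← mt_mul, mul_inv_cancel]; rfl

omit hF in
theorem mt_inv_mul (g : L8) : mt g⁻¹ * mt g = 1 := by rw [← mt_mul, inv_mul_cancel]; rfl

/-- Squaring of entries. -/
noncomputable def sqM : M4 →+* M4 := ((sq2 hF : F ≃+* F) : F →+* F).mapMatrix

/-- The action on matrices. -/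
noncomputable def matAct (a : AutSz hF) (X : M4) : M4 :=
  mt a.left * (a.right : F →+* F).mapMatrix X * sqM hF (mt a.left⁻¹)

theorem matAct_add (a : AutSz hF) (X Y : M4) : matAct hF a (X + Y) = matAct hF a X + matAct hF a Y := by
  simp only [matAct, map_add, mul_add, add_mul]

theorem matAct_one (X : M4) : matAct hF 1 X = X := by
  simp only [matAct, SemidirectProduct.one_left, inv_one, mt_one, map_one, one_mul, mul_one]
  rfl

theorem matAct_mul (a b : AutSz hF) (X : M4) : matAct hF (a * b) X = matAct hF a (matAct hF b X) := by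
  have hcomm : (a.right : F →+* F).mapMatrix (sqM hF (mt b.left⁻¹)) =
      sqM hF ((a.right : F →+* F).mapMatrix (mt b.left⁻¹)) := by
    ext i j
    exact sq2_comm hF a.right _
  have hcomp : ((a.right * b.right : F ≃+* F) : F →+* F).mapMatrix X =
      (a.right : F →+* F).mapMatrix ((b.right : F →+* F).mapMatrix X) := rfl
  simp only [matAct, SemidirectProduct.mul_left, SemidirectProduct.mul_right, ringAct_apply,
    _root_.mul_inv_rev, mt_mul, map_mul, hcomp, mul_assoc]
  rw [← map_inv (ringEnd hF a.right) b.left, ringEnd_mt, ringEnd_mt, hcomm]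

theorem sqM_inv_mul (g : L8) : sqM hF (mt g⁻¹) * sqM hF (mt g) = 1 := by
  rw [← map_mul, mt_inv_mul, map_one]

/-- An element of order 13 intertwines with its image under squaring only by zero. -/
theorem intertwine_zero {g : L8} (hg : g ^ 13 = 1) (hg1 : g ≠ 1) {Y : M4}
    (h : mt g * Y = Y * sqM hF (mt g)) : Y = 0 := by
  classical
  haveI := charTwo hF
  haveI : Fact (Nat.Prime 2) := ⟨Nat.prime_two⟩
  set p := (mt g).charpoly with hp
  set p' := p.map ((sq2 hF : F ≃+* F) : F →+* F) with hp'
  have hp'0 : aeval (sqM hF (mt g)) p' = 0 := by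
    rw [hp', hp, ← Matrix.charpoly_map]
    exact Matrix.aeval_self_charpoly _
  have htw : ∀ P : F[X], aeval (mt g) P * Y = Y * aeval (sqM hF (mt g)) P := by
    intro P
    induction P using Polynomial.induction_on' with
    | add P Q hP hQ => rw [map_add, map_add, add_mul, mul_add, hP, hQ]
    | monomial k a =>
      rw [aeval_monomial, aeval_monomial, mul_assoc]
      have hk : mt g ^ k * Y = Y * sqM hF (mt g) ^ k := by
        induction k with
        | zero => simp
        | succ k ih => rw [pow_succ, mul_assoc, h, ← mul_assoc, ih, mul_assoc, ← pow_succ]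
      rw [hk, ← mul_assoc, Algebra.commutes, mul_assoc]
  have hg4 : g ^ 4 ≠ 1 := by
    intro h4
    apply hg1
    calc g = g ^ 13 * ((g ^ 4) ^ 3)⁻¹ := by group
      _ = 1 := by rw [hg, h4]; simp
  by_cases hc : IsCoprime p p'
  · obtain ⟨a, b, hab⟩ := hc
    have h1 := congrArg (aeval (sqM hF (mt g))) hab
    rw [map_add, map_mul _ b, hp'0, mul_zero, add_zero, map_one] at h1
    calc Y = Y * aeval (sqM hF (mt g)) (a * p) := by rw [h1, mul_one]
      _ = aeval (mt g) (a * p) * Y := (htw _).symm
      _ = 0 := by rw [map_mul, hp, Matrix.aeval_self_charpoly, mul_zero, zero_mul]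
  exfalso
  obtain ⟨d, hdi, hd1, hd2⟩ : ∃ d, Irreducible d ∧ d ∣ p ∧ d ∣ p' := by
    by_contra hno
    push Not at hno
    refine hc (isCoprime_of_dvd _ _ (fun h => (Matrix.charpoly_monic _).ne_zero h.1) ?_)
    intro z hzu _ hz1 hz2
    obtain ⟨q, -, hqi, hqz⟩ := Polynomial.exists_monic_irreducible_factor z hzu
    exact hno q hqi (hqz.trans hz1) (hqz.trans hz2)
  haveI : Fact (Irreducible d) := ⟨hdi⟩
  haveI : CharP (AdjoinRoot d) 2 := charP_of_injective_ringHom (algebraMap F (AdjoinRoot d)).injective 2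
  set z := AdjoinRoot.root d
  have hd0 : aeval z d = 0 := by rw [AdjoinRoot.aeval_eq, AdjoinRoot.mk_self]
  have hzp : aeval z p = 0 := aeval_eq_zero_of_dvd_aeval_eq_zero hd1 hd0
  have hzp' : aeval z p' = 0 := aeval_eq_zero_of_dvd_aeval_eq_zero hd2 hd0
  -- roots of the characteristic polynomial are non-trivial 13th roots of unity
  have hroot : ∀ x : AdjoinRoot d, aeval x p = 0 → x ^ 13 = 1 ∧ x ≠ 1 := by
    intro x hx
    constructor
    · rw [← Polynomial.eval_map_algebraMap, hp, ← Matrix.charpoly_map, Matrix.eval_charpoly] at hx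
      obtain ⟨v, hv, hv0⟩ := Matrix.exists_mulVec_eq_zero_iff.mpr hx
      rw [Matrix.sub_mulVec, sub_eq_zero, Matrix.scalar_apply, Matrix.diagonal_const_mulVec] at hv0
      set G := (mt g).map (algebraMap F (AdjoinRoot d))
      have hpow : ∀ n : ℕ, (G ^ n) *ᵥ v = x ^ n • v := by
        intro n
        induction n with
        | zero => simp
        | succ n ih => rw [pow_succ, ← Matrix.mulVec_mulVec, ← hv0, Matrix.mulVec_smul, ih, smul_smul, ← pow_succ']
      have hG : G ^ 13 = 1 := by
        show ((algebraMap F (AdjoinRoot d)).mapMatrix (mt g)) ^ 13 = 1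
        rw [← map_pow, show mt g ^ 13 = 1 from (mat_pow g 13).symm.trans (by rw [hg]; rfl), map_one]
      have h13 := hpow 13
      rw [hG, Matrix.one_mulVec] at h13
      obtain ⟨i, hi⟩ := Function.ne_iff.mp hv
      have := congrFun h13 i
      rw [Pi.smul_apply, smul_eq_mul] at this
      exact mul_right_cancel₀ (b := v i) hi (by rw [one_mul]; exact this.symm)
    · intro h1
      rw [h1, ← map_one (algebraMap F (AdjoinRoot d)), Polynomial.aeval_algebraMap_apply,
        map_eq_zero] at hx
      rw [hp, Polynomial.coe_aeval_eq_eval] at hx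
      exact charpoly_eval_one hF le_rfl hg4 hx
  have hsq : ∀ x : AdjoinRoot d, aeval (x ^ 2) p' = aeval x p ^ 2 := by
    intro x
    rw [hp']
    generalize p = P
    induction P using Polynomial.induction_on' with
    | add P Q hP hQ => rw [Polynomial.map_add, map_add, map_add, add_pow_char, hP, hQ]
    | monomial k a =>
      rw [Polynomial.map_monomial, aeval_monomial, aeval_monomial, mul_pow, RingHom.coe_coe, sq2_apply,
        map_pow, ← pow_mul, ← pow_mul, mul_comm k]
  have h8 : ∀ x : AdjoinRoot d, aeval (x ^ 8) p = aeval x p ^ 8 := by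
    intro x
    generalize p = P
    induction P using Polynomial.induction_on' with
    | add P Q hP hQ =>
      rw [map_add, map_add, hP, hQ]
      exact (add_pow_char_pow (p := 2) (n := 3) _ _).symm
    | monomial k a =>
      rw [aeval_monomial, aeval_monomial, mul_pow, ← map_pow, pow_eight hF, ← pow_mul, ← pow_mul, mul_comm k]
  obtain ⟨hz13, hz1⟩ := hroot z hzp
  haveI : Fact (Nat.Prime 13) := ⟨by norm_num⟩
  have ho : orderOf z = 13 := orderOf_eq_prime hz13 hz1
  have hz7 : aeval (z ^ 7) p = 0 := by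
    apply pow_eq_zero_iff (n := 2) (by norm_num) |>.mp
    rw [← hsq, ← pow_mul, show z ^ (7 * 2) = z by rw [show (7 * 2 : ℕ) = 13 + 1 by norm_num, pow_succ, hz13, one_mul], hzp']
  have hstep : ∀ k, aeval (z ^ k) p = 0 → aeval (z ^ (k * 8 % 13)) p = 0 := by
    intro k hk
    have e : z ^ (k * 8 % 13) = (z ^ k) ^ 8 := by
      rw [← pow_mul, pow_eq_pow_mod (k * 8) hz13]
    rw [e, h8, hk, zero_pow (by norm_num)]
  have z1 : aeval (z ^ 1) p = 0 := by rw [pow_one]; exact hzp
  have z8 := hstep 1 z1
  have z12 := hstep 8 z8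
  have z5 := hstep 12 z12
  have z4 := hstep 7 hz7
  have z6 := hstep 4 z4
  have z9 := hstep 6 z6
  norm_num at z8 z12 z5 z4 z6 z9
  let S : Finset (AdjoinRoot d) := ({1, 8, 12, 5, 7, 4, 6, 9} : Finset ℕ).image (fun k => z ^ k)
  have hSc : S.card = 8 := by
    rw [Finset.card_image_of_injOn]
    · rfl
    · intro a ha b hb hab
      apply pow_injOn_Iio_orderOf (G := AdjoinRoot d) (x := z)
      · simp at ha; rw [Set.mem_Iio, ho]; omega
      · simp at hb; rw [Set.mem_Iio, ho]; omega
      · exact hab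
  have hne : p.map (algebraMap F (AdjoinRoot d)) ≠ 0 := Polynomial.map_ne_zero (Matrix.charpoly_monic _).ne_zero
  have hsub : S ⊆ (p.map (algebraMap F (AdjoinRoot d))).roots.toFinset := by
    intro x hx
    rw [Multiset.mem_toFinset, Polynomial.mem_roots hne, Polynomial.IsRoot.def, Polynomial.eval_map_algebraMap]
    simp [S] at hx
    rcases hx with h | h | h | h | h | h | h | h <;> rw [h]
    exacts [hzp, z8, z12, z5, hz7, z4, z6, z9]
  have := (Finset.card_le_card hsub).trans ((Multiset.toFinset_card_le _).trans (Polynomial.card_roots' _))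
  rw [hSc, Polynomial.natDegree_map, hp, Matrix.charpoly_natDegree_eq_dim, Fintype.card_fin] at this
  omega

end CfsgLib.PrimeGraphSp63
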