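import Cfsg.Agent.Lib.PrimeGraphSp63.SuzukiAut

/-!
Prime graph data for `Sz(8).3` and its action on 4 × 4 matrices.
-/

set_option autoImplicit false

namespace CfsgLib.PrimeGraphSp63

open Matrix CfsgLib.Suzuki

variable {F : Type*} [Field F] [Fintype F] [DecidableEq F] (hF : Fintype.card F = 2 ^ (2 * 1 + 1))

set_option quotPrecheck false in
local notation "L8" => ↥(Cfsg.Sz F 1)
local notation "M4" => Matrix (Fin 4) (Fin 4) F

include hF

theorem finite_autSz : Finite (AutSz hF) := by
  haveI := finite_ringAut hF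
  exact Finite.of_equiv _ SemidirectProduct.equivProd.symm

theorem card_autSz : Nat.card (AutSz hF) = 29120 * 3 := by
  rw [Nat.card_congr SemidirectProduct.equivProd, Nat.card_prod, card_ringAut hF, card_Sz hF le_rfl]
  norm_num

theorem order_cases {g : L8} (hg : g ≠ 1) :
    orderOf g ∣ 64 ∨ (g ∈ conjSet (T hF) ∧ orderOf g ∣ 7) ∨ orderOf g ∣ 13 ∨ orderOf g ∣ 5 := by
  obtain ⟨Ap, Am, -, hp, -, -, -, hm, -, -, hall⟩ := classify hF le_rfl
  rcases hall g hg with h | h | h | h
  · left
    have := orderOf_dvd_of_conjSet _ h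
    rw [card_U] at this
    exact this.trans (by norm_num)
  · right; left
    refine ⟨h, ?_⟩
    have := orderOf_dvd_of_conjSet _ h
    rw [card_T] at this
    exact this.trans (by norm_num)
  · right; right; left
    have := orderOf_dvd_of_conjSet _ h
    rw [hp] at this
    exact this.trans (by norm_num)
  · right; right; right
    have := orderOf_dvd_of_conjSet _ h
    rw [hm] at this
    exact this.trans (by norm_num)

theorem mul_not_order {p q : ℕ} (hp : p.Prime) (hq : q.Prime) (hpq : p ≠ q) (g : L8) :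
    orderOf g ≠ p * q := by
  intro h
  have hg : g ≠ 1 := by
    rintro rfl
    rw [orderOf_one] at h
    exact hp.ne_one (Nat.eq_one_of_mul_eq_one_right h.symm)
  have aux : ∀ {r n : ℕ}, r.Prime → p * q ∣ r ^ n → False := fun hr hd =>
    hpq (((Nat.prime_dvd_prime_iff_eq hp hr).mp (hp.dvd_of_dvd_pow ((dvd_mul_right p q).trans hd))).trans
      ((Nat.prime_dvd_prime_iff_eq hq hr).mp (hq.dvd_of_dvd_pow ((dvd_mul_left q p).trans hd))).symm)
  rcases order_cases hF hg with h' | ⟨-, h'⟩ | h' | h' <;> rw [h] at h'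
  · exact aux Nat.prime_two (n := 6) h'
  · exact aux (r := 7) (n := 1) (by norm_num) h'
  · exact aux (r := 13) (n := 1) (by norm_num) h'
  · exact aux (r := 5) (n := 1) (by norm_num) h'

theorem trace_dS (t : Fˣ) :
    (mt (dS hF t)).trace = ((t : F) + (t⁻¹ : Fˣ)) + ((t : F) + (t⁻¹ : Fˣ)) ^ 2 := by
  haveI := charTwo hF
  have h7 : (t : F) ^ 7 = 1 := by
    rw [← Units.val_pow_eq_pow_val, unit_pow_seven hF, Units.val_one]
  have e1 : th 1 (t : F) = (t : F) ^ 4 := rfl
  show (mD 1 (t : F)).trace = _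
  rw [mD, Matrix.trace_diagonal, Fin.sum_univ_four]
  simp only [Matrix.cons_val_zero, Matrix.cons_val_one, Matrix.cons_val, e1]
  have hi : ((t⁻¹ : Fˣ) : F) = (t : F) ^ 6 := by
    rw [Units.val_inv_eq_inv_val]
    refine inv_eq_of_mul_eq_one_right ?_
    rw [← pow_succ']; exact h7
  have hi2 : ((t : F) ^ 4 * t)⁻¹ = (t : F) ^ 2 := by
    refine inv_eq_of_mul_eq_one_right ?_
    rw [← pow_succ, ← pow_add]; exact h7
  have h2 := CfsgLib.Suzuki.two_eq_zero hF
  rw [← Units.val_inv_eq_inv_val, hi, hi2]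
  linear_combination (-(t : F) ^ 5) * h7 - ((t : F) ^ 7) * h2

theorem trace_ne {g : L8} (hg : g ^ 7 = 1) (hg1 : g ≠ 1) :
    sq2 hF (mt g).trace ≠ (mt g).trace := by
  haveI := charTwo hF
  haveI : Fact (Nat.Prime 7) := ⟨by norm_num⟩
  have ho : orderOf g = 7 := orderOf_eq_prime hg hg1
  rcases order_cases hF hg1 with h | ⟨⟨-, x, hx⟩, -⟩ | h | h <;> try (rw [ho] at h; norm_num at h)
  obtain ⟨t, ht⟩ := (mem_T hF).mp hx
  have ht1 : t ≠ 1 := by
    rintro rfl
    rw [dS_one] at ht
    apply hg1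
    calc g = x * (x⁻¹ * g * x) * x⁻¹ := by group
      _ = 1 := by rw [ht]; group
  have htr : (mt g).trace = (mt (dS hF t)).trace := by
    rw [← ht, mt_mul, mt_mul, Matrix.trace_mul_comm, ← mul_assoc, mt_mul_inv, one_mul]
  rw [htr, trace_dS, sq2_apply]
  set y := (t : F) + (t⁻¹ : Fˣ) with hy
  intro h
  have h2 := CfsgLib.Suzuki.two_eq_zero hF
  have h3 : y * (y ^ 3 - 1) = 0 := by linear_combination h - y ^ 3 * h2
  have hmul : (t : F) * (t⁻¹ : Fˣ) = 1 := t.mul_inv
  have h7 : (t : F) ^ 7 = 1 := by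
    rw [← Units.val_pow_eq_pow_val, unit_pow_seven hF, Units.val_one]
  rcases mul_eq_zero.mp h3 with h0 | h0
  · have : (t : F) ^ 2 = 1 := by
      rw [hy] at h0
      linear_combination (t : F) * h0 - hmul - h2
    exact ht1 (Units.ext (CharTwo.sq_injective (by simpa using this)))
  · have hy1 : y = 1 := by
      have h8 := pow_eight hF y
      have e : y ^ 3 = 1 := sub_eq_zero.mp h0
      have : y ^ 8 = y ^ 2 := by rw [show 8 = 3 + 3 + 2 by norm_num, pow_add, pow_add, e, one_mul, one_mul]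
      rw [h8] at this
      calc y = y ^ 2 * y ^ 2 := by rw [← this, ← sq, ← this]
        _ = y ^ 3 * y := by ring
        _ = y := by rw [e, one_mul]
      exact (mul_left_cancel₀ (a := y) (fun h => by rw [h] at e; norm_num at e)
        (show y * y = y * 1 by rw [mul_one, ← sq]; exact this.symm))
    have ht3 : (t : F) ^ 3 = 1 := by
      rw [hy] at hy1
      linear_combination ((t : F) + 1) * ((t : F) * hy1 - hmul) - h2
    refine ht1 (Units.ext ?_)
    calc (t : F) = (t : F) ^ 7 := by rw [show 7 = 3 + 3 + 1 by norm_num, pow_add, pow_add, ht3, one_mul, one_mul, pow_one]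
      _ = 1 := h7

theorem right_eq_one {a : AutSz hF} {n : ℕ} (hn : Nat.Coprime n 3) (h : a ^ n = 1) : a.right = 1 := by
  haveI := finite_ringAut hF
  have h1 : a.right ^ n = 1 := by
    have := congrArg (SemidirectProduct.rightHom : AutSz hF →* (F ≃+* F)) h
    rwa [map_pow, map_one] at this
  have h2 : orderOf a.right ∣ 3 := card_ringAut hF ▸ orderOf_dvd_natCard _
  exact orderOf_eq_one_iff.mp (Nat.eq_one_of_dvd_coprimes hn (orderOf_dvd_of_pow_eq_one h1) h2)

theorem exists_inl {a : AutSz hF} {n : ℕ} (hn : Nat.Coprime n 3) (h : a ^ n = 1) :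
    ∃ g : L8, a = SemidirectProduct.inl g ∧ g ^ n = 1 := by
  have e : a = SemidirectProduct.inl a.left := SemidirectProduct.ext rfl (right_eq_one hF hn h)
  refine ⟨a.left, e, SemidirectProduct.inl_injective (φ := ringAct hF) ?_⟩
  rw [map_pow, ← e, h, map_one]

/-- No element of order 3 centralizes an element of order 7 or 13. -/
theorem no_centralizing_three {r : ℕ} (hr : r = 7 ∨ r = 13) {y z : AutSz hF} (hy : y ^ r = 1) (hy1 : y ≠ 1)
    (hz : z ^ 3 = 1) (hz1 : z ≠ 1) : ¬ Commute z y := by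
  intro hc
  obtain ⟨g, rfl, hg⟩ := exists_inl hF (by rcases hr with rfl | rfl <;> norm_num) hy
  have hg1 : g ≠ 1 := fun h => hy1 (by rw [h, map_one])
  set l := z.left
  set φ := z.right
  have hφ : φ ≠ 1 := by
    intro h
    have e : z = SemidirectProduct.inl l := SemidirectProduct.ext rfl h
    have hl : l ^ 3 = 1 := SemidirectProduct.inl_injective (φ := ringAct hF) (by rw [map_pow, ← e, hz, map_one])
    have hl1 : l ≠ 1 := fun h' => hz1 (by rw [e, h', map_one])
    haveI : Fact (Nat.Prime 3) := ⟨Nat.prime_three⟩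
    have ho := orderOf_eq_prime hl hl1
    rcases order_cases hF hl1 with h' | ⟨-, h'⟩ | h' | h' <;> rw [ho] at h' <;> norm_num at h'
  have key : l * ringEnd hF φ g = g * l := by
    have := congrArg SemidirectProduct.left hc.eq
    simpa [SemidirectProduct.mul_left, ringAct_apply] using this
  have hm : mt l * (φ : F →+* F).mapMatrix (mt g) = mt g * mt l := by
    rw [← ringEnd_mt hF, ← mt_mul, key, mt_mul]
  have hl0 : ∀ x : L8, mt x ≠ 0 := fun x h => by
    have := mt_mul_inv x
    rw [h, zero_mul] at this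
    exact zero_ne_one this
  rcases hr with rfl | rfl
  · -- order 7: the trace would be in the prime field
    have htr : φ (mt g).trace = (mt g).trace := by
      have h1 : ((φ : F →+* F).mapMatrix (mt g)).trace = φ (mt g).trace := by
        simp [Matrix.trace, map_sum]
      rw [← h1]
      calc ((φ : F →+* F).mapMatrix (mt g)).trace
          = (mt l⁻¹ * (mt l * (φ : F →+* F).mapMatrix (mt g))).trace := by
            rw [← mul_assoc, mt_inv_mul, one_mul]
        _ = (mt l⁻¹ * (mt g * mt l)).trace := by rw [hm]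
        _ = (mt g).trace := by rw [Matrix.trace_mul_comm, mul_assoc, mt_mul_inv, mul_one]
    refine trace_ne hF hg hg1 ?_
    rcases ringAut_cases hF φ with h | h | h
    · exact absurd h hφ
    · rwa [h] at htr
    · rw [h] at htr
      have h2 : sq2 hF (sq2 hF (mt g).trace) = (mt g).trace := htr
      have h3 : sq2 hF (sq2 hF (sq2 hF (mt g).trace)) = (mt g).trace :=
        RingEquiv.congr_fun (sq2_cube hF) _
      calc sq2 hF (mt g).trace = sq2 hF (sq2 hF (sq2 hF (mt g).trace)) := by rw [h2]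
        _ = _ := h3
  · rcases ringAut_cases hF φ with h | h | h
    · exact hφ h
    · rw [h] at hm
      exact hl0 l (intertwine_zero hF hg hg1 hm.symm)
    · rw [h] at hm
      have hm' := congrArg (sqM hF) hm
      rw [map_mul, map_mul] at hm'
      have e : sqM hF (((sq2 hF * sq2 hF : F ≃+* F) : F →+* F).mapMatrix (mt g)) = mt g := by
        ext i j
        exact RingEquiv.congr_fun (sq2_cube hF) (mt g i j)
      rw [e] at hm'
      refine hl0 (ringEnd hF (sq2 hF) l⁻¹) ((ringEnd_mt hF _ _).trans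
        (intertwine_zero hF hg hg1 (Y := sqM hF (mt l⁻¹)) ?_))
      calc mt g * sqM hF (mt l⁻¹)
            = sqM hF (mt l⁻¹) * (sqM hF (mt l) * mt g) * sqM hF (mt l⁻¹) := by
              rw [← mul_assoc (sqM hF (mt l⁻¹)), sqM_inv_mul, one_mul]
          _ = sqM hF (mt l⁻¹) * sqM hF (mt g) := by
              rw [hm', mul_assoc (sqM hF (mt l⁻¹)), mul_assoc, ← map_mul, mt_mul_inv, map_one, mul_one]

/-- Absent edges of `Sz(8).3`. -/
theorem edge_autSz {p q : ℕ} (hp : p.Prime) (hq : q.Prime) (hpq : p ≠ q) {a : AutSz hF}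
    (ha : orderOf a = p * q) : p * q = 6 ∨ p * q = 15 := by
  haveI := finite_autSz hF
  have hd : p * q ∣ 29120 * 3 := ha ▸ card_autSz hF ▸ orderOf_dvd_natCard a
  have hprimes : ∀ r, r.Prime → r ∣ 29120 * 3 → r = 2 ∨ r = 3 ∨ r = 5 ∨ r = 7 ∨ r = 13 := by
    intro r hr hd
    rw [show 29120 * 3 = 2 ^ 6 * 3 * 5 * 7 * 13 by norm_num] at hd
    simp only [hr.dvd_mul] at hd
    rcases hd with (((h | h) | h) | h) | h
    · exact Or.inl ((Nat.prime_dvd_prime_iff_eq hr Nat.prime_two).mp (hr.dvd_of_dvd_pow h))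
    all_goals
      have := (Nat.prime_dvd_prime_iff_eq hr (by norm_num)).mp h
      omega
  by_cases h3 : Nat.Coprime (p * q) 3
  · obtain ⟨g, rfl, -⟩ := exists_inl hF h3 (by rw [← ha, pow_orderOf_eq_one])
    rw [orderOf_injective _ SemidirectProduct.inl_injective] at ha
    exact absurd ha (mul_not_order hF hp hq hpq g)
  obtain ⟨r, hr, hr3, he⟩ : ∃ r, r.Prime ∧ r ≠ 3 ∧ p * q = 3 * r := by
    rw [Nat.coprime_comm, Nat.prime_three.coprime_iff_not_dvd, not_not, Nat.prime_three.dvd_mul] at h3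
    rcases h3 with h | h
    · have := (Nat.prime_dvd_prime_iff_eq Nat.prime_three hp).mp h
      exact ⟨q, hq, fun e => hpq (by omega), by rw [← this]⟩
    · have := (Nat.prime_dvd_prime_iff_eq Nat.prime_three hq).mp h
      exact ⟨p, hp, fun e => hpq (by omega), by rw [← this, mul_comm]⟩
  rcases hprimes r hr ((he ▸ dvd_mul_left r 3 : r ∣ p * q).trans hd) with rfl | rfl | rfl | rfl | rfl
  · omega
  · omega
  · omega
  · exfalso
    rw [he] at ha
    refine no_centralizing_three hF (r := 7) (by norm_num) (y := a ^ 3) (z := a ^ 7) ?_ ?_ ?_ ?_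
      ((Commute.refl a).pow_pow _ _)
    · rw [← pow_mul, ← ha, pow_orderOf_eq_one]
    · exact pow_ne_one_of_lt_orderOf (by norm_num) (by rw [ha]; norm_num)
    · rw [← pow_mul, mul_comm, ← ha, pow_orderOf_eq_one]
    · exact pow_ne_one_of_lt_orderOf (by norm_num) (by rw [ha]; norm_num)
  · exfalso
    rw [he] at ha
    refine no_centralizing_three hF (r := 13) (by norm_num) (y := a ^ 3) (z := a ^ 13) ?_ ?_ ?_ ?_
      ((Commute.refl a).pow_pow _ _)
    · rw [← pow_mul, ← ha, pow_orderOf_eq_one]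
    · exact pow_ne_one_of_lt_orderOf (by norm_num) (by rw [ha]; norm_num)
    · rw [← pow_mul, mul_comm, ← ha, pow_orderOf_eq_one]
    · exact pow_ne_one_of_lt_orderOf (by norm_num) (by rw [ha]; norm_num)

end CfsgLib.PrimeGraphSp63
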